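import Groth.Agent.L13.BlowP1.Embed
import Groth.Agent.L21.Mero.IsoFrames
import Groth.Agent.L16.NegPow.Gen
import Groth.Agent.L18.GenLocus
import Groth.Agent.L18.AmplePull
import Groth.Agent.L18.PBundle.TwistPow

/-!
# Powers of invertible ideals and inverses
-/

set_option autoImplicit false
set_option linter.style.haveILetI false
set_option backward.isDefEq.respectTransparency false

universe u

open CategoryTheory CategoryTheory.Limits AlgebraicGeometry TopologicalSpace Opposite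
open Groth.L18.Frame (IsFrame rs ro rs_self rs_rs rs_smul)
open Groth.L18.GenLoc (tens tens_rs tens_smul_left tens_smul_right isFrame_tens)
open Groth.Agent.L19.IdealInvertible (io io_smul io_inj)
open Groth.L00.Tensor (tensorIso tensorAssoc tensorComm tensorUnitLeft tensorUnitRight)

noncomputable section

namespace Groth.L13.PointBlow

variable {X : Scheme.{u}}

theorem ro_mul {V W : X.Opens} (h : V ≤ W) (a b : Γ(X, W)) : ro h (a * b) = ro h a * ro h b :=
  map_mul (X.presheaf.map (homOfLE h).op).hom a b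

/-- A nearby affine open where an effective Cartier ideal has a framed generator. -/
theorem exists_gen {I : X.IdealSheafData} (hI : PicF.IsInvertible (ClSub.idealMod I)) (W : X.Opens) (z : X) (hz : z ∈ W) :
    ∃ (U : X.affineOpens) (m : Γ(ClSub.idealMod I, U.1)), z ∈ U.1 ∧ U.1 ≤ W ∧ IsFrame (ClSub.idealMod I) U.1 m ∧
      I.ideal U = Ideal.span {io I U.1 m} := by
  obtain ⟨V₀, e, hzV₀, he⟩ := Groth.L18.Frame.exists_frame hI z
  obtain ⟨U, hU, hzU, hUle⟩ := exists_isAffineOpen_mem_and_subset (x := z) (U := V₀ ⊓ W) ⟨hzV₀, hz⟩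
  have h0 : U ≤ V₀ := fun y hy => (hUle hy).1
  refine ⟨⟨U, hU⟩, rs _ h0 e, hzU, fun y hy => (hUle hy).2, he.mono h0, ?_⟩
  ext a
  rw [Groth.L18.IdealModule.mem_ideal_iff I hU, Ideal.mem_span_singleton']
  constructor
  · rintro ⟨n, rfl⟩
    obtain ⟨b, hb⟩ := (he.mono h0).exists_coeff le_rfl n
    rw [rs_self] at hb
    exact ⟨b, by rw [← io_smul, hb]⟩
  · rintro ⟨b, rfl⟩
    exact ⟨b • rs _ h0 e, io_smul I b _⟩

theorem isInvertible_idealMod_mul {I J : X.IdealSheafData} (hI : PicF.IsInvertible (ClSub.idealMod I))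
    (hJ : PicF.IsInvertible (ClSub.idealMod J)) : PicF.IsInvertible (ClSub.idealMod (I * J)) := by
  rw [Groth.Agent.L19.IdealInvertible.isEffCartier_iff] at hI hJ ⊢
  intro z
  obtain ⟨U, hzU, g, hg, hIU, hV⟩ := Groth.L22.Ideals.exists_generator hI z
  obtain ⟨U', hzU', g', hg', hJU, hV'⟩ := Groth.L22.Ideals.exists_generator hJ z
  obtain ⟨W, hW, hzW, hWle⟩ := exists_isAffineOpen_mem_and_subset (x := z) (U := U.1 ⊓ U'.1) ⟨hzU, hzU'⟩
  have h1 := hV ⟨W, hW⟩ (fun y hy => (hWle hy).1)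
  have h2 := hV' ⟨W, hW⟩ (fun y hy => (hWle hy).2)
  refine ⟨⟨W, hW⟩, hzW, _, mul_mem h1.1 h2.1, ?_⟩
  rw [Scheme.IdealSheafData.ideal_mul, Pi.mul_apply, h1.2, h2.2, Ideal.span_singleton_mul_span_singleton]

/-- The ideal of a sum of effective divisors. -/
theorem nonempty_idealMod_mul {I J : X.IdealSheafData} (hI : PicF.IsInvertible (ClSub.idealMod I))
    (hJ : PicF.IsInvertible (ClSub.idealMod J)) :
    Nonempty (ClSub.idealMod (I * J) ≅ CohB1.tensorMod (ClSub.idealMod I) (ClSub.idealMod J)) := by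
  have hIJ := isInvertible_idealMod_mul hI hJ
  have key : ∀ z : X, ∃ (U : X.affineOpens) (a : Γ(ClSub.idealMod I, U.1)) (b : Γ(ClSub.idealMod J, U.1))
      (c : Γ(ClSub.idealMod (I * J), U.1)), z ∈ U.1 ∧ IsFrame _ U.1 a ∧ IsFrame _ U.1 b ∧ IsFrame _ U.1 c ∧
        io (I * J) U.1 c = io I U.1 a * io J U.1 b := by
    intro z
    obtain ⟨U₀, a, hzU₀, -, ha, hIU⟩ := exists_gen hI ⊤ z trivial
    obtain ⟨U, b, hzU, hle, hb, hJU⟩ := exists_gen hJ U₀.1 z hzU₀
    obtain ⟨c, hc⟩ := (Groth.L18.IdealModule.mem_ideal_iff (I * J) U.2 (io I U.1 (rs _ hle a) * io J U.1 b)).1 (by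
      show _ ∈ (I * J).ideal U
      rw [Scheme.IdealSheafData.ideal_mul, Pi.mul_apply]
      exact Ideal.mul_mem_mul ((Groth.L18.IdealModule.mem_ideal_iff I U.2 _).2 ⟨_, rfl⟩)
        ((Groth.L18.IdealModule.mem_ideal_iff J U.2 _).2 ⟨_, rfl⟩))
    refine ⟨U, rs _ hle a, b, c, hzU, ha.mono hle, hb, ?_, hc⟩
    refine Groth.L13.BlowP1.isFrame_of_span hIJ c fun V hV hVU => ?_
    rw [Groth.L13.BlowP1.io_ro, show io (I * J) U.1 c = _ from hc, ro_mul, Scheme.IdealSheafData.ideal_mul,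
      Pi.mul_apply, ← Groth.L13.BlowP1.io_ro, ← Groth.L13.BlowP1.io_ro,
      ← I.map_ideal (U := ⟨V, hV⟩) (V := U₀) (hVU.trans hle), hIU,
      ← J.map_ideal (U := ⟨V, hV⟩) (V := U) hVU, hJU, Ideal.map_span, Ideal.map_span, Set.image_singleton,
      Set.image_singleton, Ideal.span_singleton_mul_span_singleton]
    rw [rs_rs, Groth.L13.BlowP1.io_ro, Groth.L13.BlowP1.io_ro]
    rfl
  choose U a b c hzU ha hb hc hio using key
  refine Groth.L21.Mero.nonempty_iso_of_frames (fun z => (U z).1) (fun z => ⟨z, hzU z⟩) c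
    (fun z => tens _ _ (U z).1 (a z) (b z)) hc (fun z => isFrame_tens (ha z) (hb z)) fun i j W hi hj w hw => ?_
  obtain ⟨u, hu⟩ := (ha j).exists_coeff hj (rs _ hi (a i))
  obtain ⟨v, hv⟩ := (hb j).exists_coeff hj (rs _ hi (b i))
  have hwuv : w = u * v := by
    refine (hc j).inj hj ((hw.symm.trans ?_))
    apply io_inj (I * J)
    rw [io_smul, Groth.L13.BlowP1.io_ro, Groth.L13.BlowP1.io_ro, hio, hio, ro_mul, ro_mul,
      ← Groth.L13.BlowP1.io_ro, ← Groth.L13.BlowP1.io_ro, ← Groth.L13.BlowP1.io_ro, ← Groth.L13.BlowP1.io_ro,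
      ← hu, ← hv, io_smul, io_smul]
    ring
  rw [tens_rs, tens_rs, ← hu, ← hv, tens_smul_left, tens_smul_right, hwuv, mul_smul]

theorem idealMod_one : Nonempty (ClSub.idealMod (1 : X.IdealSheafData) ≅ Coh.structureModule X) := by
  have h : PicF.IsInvertible (ClSub.idealMod (1 : X.IdealSheafData)) := by
    rw [Groth.Agent.L19.IdealInvertible.isEffCartier_iff]
    exact Groth.L22.Ideals.isEffCartier_top
  haveI : IsEmpty ↥((1 : X.IdealSheafData).subscheme) := ⟨fun z => by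
    have hz := Set.mem_range_self (f := (1 : X.IdealSheafData).subschemeι) z
    have h1 : ((1 : X.IdealSheafData).support : Set X) = ∅ := by
      rw [Scheme.IdealSheafData.one_eq_top, Scheme.IdealSheafData.support_top]; rfl
    rw [Scheme.IdealSheafData.range_subschemeι, h1] at hz
    exact hz⟩
  obtain ⟨s, hs⟩ := ((Groth.L18.IdealModule.exact_sections (1 : X.IdealSheafData) ⊤).2 (1 : Γ(X, ⊤))).1
    (Subsingleton.elim _ _)
  refine Groth.L18.PBundle.nonempty_iso_unit (e := s) (Groth.L13.BlowP1.isFrame_of_span h s fun V hV hVW => ?_)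
  rw [Groth.L13.BlowP1.io_ro, show io (1 : X.IdealSheafData) ⊤ s = 1 from hs, show ro hVW (1 : Γ(X, ⊤)) = 1 from map_one (X.presheaf.map (homOfLE hVW).op).hom,
    Ideal.span_singleton_one]
  exact le_top

/-- Powers of an invertible ideal. -/
theorem nonempty_idealMod_pow {I : X.IdealSheafData} (hI : PicF.IsInvertible (ClSub.idealMod I)) :
    ∀ b : ℕ, PicF.IsInvertible (ClSub.idealMod (I ^ b)) ∧
      Nonempty (ClSub.idealMod (I ^ b) ≅ CohB1.tensorPow (ClSub.idealMod I) b)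
  | 0 => by
    rw [pow_zero]
    obtain ⟨e⟩ := idealMod_one (X := X)
    exact ⟨Groth.L18.Ample.isInvertible_of_iso e.symm (Groth.L18.Ample.isInvertible_structureModule X), ⟨e⟩⟩
  | b + 1 => by
    obtain ⟨h, ⟨e⟩⟩ := nonempty_idealMod_pow hI b
    rw [pow_succ]
    obtain ⟨i⟩ := nonempty_idealMod_mul h hI
    exact ⟨isInvertible_idealMod_mul h hI, ⟨i ≪≫ tensorIso e (Iso.refl _)⟩⟩

/-- Inverses are unique. -/
theorem inverse_unique {A B C : X.Modules} (h1 : CohB1.tensorMod A B ≅ Coh.structureModule X)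
    (h2 : CohB1.tensorMod C B ≅ Coh.structureModule X) : Nonempty (A ≅ C) :=
  ⟨(tensorUnitRight A).symm ≪≫ tensorIso (Iso.refl A) (h2.symm ≪≫ tensorComm C B) ≪≫
    (tensorAssoc A B C).symm ≪≫ tensorIso h1 (Iso.refl C) ≪≫ tensorUnitLeft C⟩

theorem isInvertible_of_isInverseOf {L M : X.Modules} (hM : PicF.IsInvertible M) (h : ClSub.IsInverseOf L M) :
    PicF.IsInvertible L :=
  Groth.L16.NegPow.isInvertible_inverse hM (tensorComm M L ≪≫ h.some)

end Groth.L13.PointBlow
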