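import Groth.Agent.L03.BlowPt.Pair
import Groth.Agent.L13.BlowTwo.Charts
import Groth.Agent.L13.BlowTwo.Vanish
import Groth.Agent.L13.BlowUp.Exists
import Groth.Agent.L11.BlowSmooth.Sch
import Groth.Agent.L18.GlobGen
import Groth.Agent.L18.AmplePull
import Groth.Agent.L16.PushCompare
import Groth.Agent.L16.AffineBC.Pullback
import Groth.Agent.L22.BlowUp
import Groth.Agent.L17.AffineVanishing
import Groth.Agent.L29.LocFree

/-!
# Acyclicity of globally generated modules over the pair chart of a point blow-up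
-/

set_option autoImplicit false
set_option linter.style.haveILetI false
set_option backward.isDefEq.respectTransparency false

universe u

open CategoryTheory CategoryTheory.Limits AlgebraicGeometry TopologicalSpace Opposite

noncomputable section

namespace Groth.L13.PointBlow

open Groth.L03.BlowPt (ptI)

variable {X P : Scheme.{u}}

theorem gg_of_epi {M N : X.Modules} (g : M ⟶ N) [Epi g] (h : Curv2.IsGloballyGenerated M) :
    Curv2.IsGloballyGenerated N := by
  obtain ⟨ι, p, hp⟩ := h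
  exact ⟨ι, p ≫ g, epi_comp p g⟩

theorem gg_pullback {Y : Scheme.{u}} (f : X ⟶ Y) {M : Y.Modules} (h : Curv2.IsGloballyGenerated M) :
    Curv2.IsGloballyGenerated ((Scheme.Modules.pullback f).obj M) := by
  obtain ⟨ι, p, hp⟩ := h
  let e : (Scheme.Modules.pullback f).obj (SheafOfModules.free ι : Y.Modules) ≅ (SheafOfModules.free ι : X.Modules) :=
    PreservesCoproduct.iso (Scheme.Modules.pullback f) _ ≪≫ Sigma.mapIso fun _ => Groth.L29.LocFree.pullbackUnitIso f
  haveI : Epi ((Scheme.Modules.pullback f).map p) :=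
    ((Scheme.Modules.pullback f).preservesEpimorphisms_of_adjunction (Scheme.Modules.pullbackPushforwardAdjunction f) |>.preserves p)
  exact ⟨ι, e.inv ≫ (Scheme.Modules.pullback f).map p, epi_comp _ _⟩

theorem gg_structure (X : Scheme.{u}) : Curv2.IsGloballyGenerated (Coh.structureModule X) :=
  ⟨PUnit, Sigma.desc fun _ => 𝟙 _, epi_of_epi_fac (Sigma.ι_desc (fun _ : PUnit => 𝟙 (Coh.structureModule X)) PUnit.unit)⟩

variable {x : P} (hx : IsClosed ({x} : Set P)) (σ : X ⟶ P) (U : P.affineOpens)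

/-- The part of a blow-up over an affine open, as a scheme. -/
abbrev pre : Scheme.{u} := pullback U.2.fromSpec σ

/-- Its inclusion. -/
abbrev preι : pre σ U ⟶ X := pullback.snd U.2.fromSpec σ

theorem opensRange_preι : (preι σ U).opensRange = σ ⁻¹ᵁ U.1 := by
  refine (Scheme.Hom.opensRange_pullbackSnd U.2.fromSpec σ).trans ?_
  rw [U.2.opensRange_fromSpec]

variable {hx σ U}

/-- Globally generated modules on the part over a pair chart have no higher cohomology. -/
theorem subsingleton_HH_pre (hb : BlowUp.IsBlowUp σ (ptI hx)) (f : Fin 2 → Γ(P, U.1))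
    (hI : (ptI hx).ideal U = Groth.L11.BlowSmooth.sI f) (F : (pre σ U).Modules) [Coh.IsQCoh F]
    (hg : Curv2.IsGloballyGenerated F) (q : ℕ) : Subsingleton (Coh.HH (pre σ U) F (q + 1)) := by
  have h1 : BlowUp.IsBlowUp (pullback.fst U.2.fromSpec σ) (Groth.L13.BU.idealOf (Groth.L11.BlowSmooth.sI f)) := by
    rw [← hI, ← Groth.L11.BlowSmooth.comap_fromSpec]
    exact Groth.L13.BU.isBlowUp_pullback U.2.fromSpec hb
  obtain ⟨A, B, hcov, hA, hB, hAB, hsplit⟩ :=
    Groth.Agent.L13.BlowTwo.exists_two_charts f (pullback.fst U.2.fromSpec σ) h1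
  rcases q with _ | q
  · exact Groth.Agent.L13.BlowTwo.subsingleton_H1 hcov hA hB hAB hsplit F hg
  · exact Groth.Agent.L13.BlowTwo.sup_affine_data hcov hA hB hAB F (q + 1 + 1) (by omega)

theorem hu_preimage_pair (hb : BlowUp.IsBlowUp σ (ptI hx)) (f : Fin 2 → Γ(P, U.1))
    (hI : (ptI hx).ideal U = Groth.L11.BlowSmooth.sI f) (M : X.Modules) [Coh.IsQCoh M]
    (hg : Curv2.IsGloballyGenerated (M.restrict (preι σ U))) (q : ℕ) :
    Subsingleton (Groth.L17.HU (X := X.toTopCat) (σ ⁻¹ᵁ U.1) (Coh.toAb M) (q + 1)) := by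
  obtain ⟨e⟩ := Groth.L17.nonempty_hu_image (preι σ U) (⊤ : (pre σ U).Opens) (Coh.toAb M) (q + 1)
  rw [Scheme.Hom.image_top_eq_opensRange, opensRange_preι] at e
  haveI : Coh.IsQCoh ((Scheme.Modules.pullback (preι σ U)).obj M) :=
    Groth.L16.AffineBC.isQCoh_pullback _ M
  haveI : Coh.IsQCoh (M.restrict (preι σ U)) :=
    (SheafOfModules.isQuasicoherent (pre σ U).ringCatSheaf).prop_of_iso
      ((Scheme.Modules.restrictFunctorIsoPullback (preι σ U)).app M).symm inferInstance
  exact @Equiv.subsingleton _ _ (e.trans (Groth.L17.hTopEquiv (X := (pre σ U).toTopCat) _ (q + 1)).symm).toEquiv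
    (subsingleton_HH_pre hb f hI (M.restrict (preι σ U)) hg q)

theorem hu_preimage_of_notMem (hb : BlowUp.IsBlowUp σ (ptI hx)) (M : X.Modules) [Coh.IsQCoh M] {V : P.Opens}
    (hV : IsAffineOpen V) (hxV : x ∉ V) (q : ℕ) :
    Subsingleton (Groth.L17.HU (X := X.toTopCat) (σ ⁻¹ᵁ V) (Coh.toAb M) (q + 1)) := by
  refine subsingleton_of_forall_eq 0 (Groth.L17.hu_affine_eq_zero M ?_ q)
  haveI := Groth.L22.Ideals.isIso_restrict_compl hb
  let C : P.Opens := (ptI hx).support.compl
  have hC : V ≤ C := fun y hy hy' => hxV (by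
    have : y ∈ ({x} : Set P) := by simpa [ptI] using hy'
    exact (Set.mem_singleton_iff.1 this) ▸ hy)
  have h1 : IsAffineOpen (C.ι ⁻¹ᵁ V) :=
    hV.preimage_of_isOpenImmersion C.ι (by rwa [Scheme.Opens.opensRange_ι])
  have h2 := (h1.preimage_of_isIso (σ ∣_ C)).image_of_isOpenImmersion (σ ⁻¹ᵁ C).ι
  have e : (σ ⁻¹ᵁ C).ι ''ᵁ ((σ ∣_ C) ⁻¹ᵁ (C.ι ⁻¹ᵁ V)) = σ ⁻¹ᵁ V := by
    rw [← Scheme.Hom.comp_preimage, morphismRestrict_ι, Scheme.Hom.comp_preimage,
      Scheme.Hom.image_preimage_eq_opensRange_inf, Scheme.Opens.opensRange_ι]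
    exact inf_eq_right.2 (σ.preimage_mono hC)
  exact e ▸ h2

/-- Cohomology of direct images along a point blow-up. -/
theorem exists_HH_push [P.IsSeparated] [QuasiCompact σ] [QuasiSeparated σ]
    (hb : BlowUp.IsBlowUp σ (ptI hx)) (hxU : x ∈ U.1) (f : Fin 2 → Γ(P, U.1))
    (hI : (ptI hx).ideal U = Groth.L11.BlowSmooth.sI f) (M : X.Modules) [Coh.IsQCoh M]
    (hg : Curv2.IsGloballyGenerated (M.restrict (preι σ U))) (p : ℕ) :
    ∃ e : Coh.HH X M p ≃+ Coh.HH P ((Coh.push σ).obj M) p,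
      ∀ (r : Coh.Γtop P) z, e ((show Coh.Γtop X from σ.appTop r) • z) = r • e z := by
  haveI : Coh.IsQCoh ((Coh.push σ).obj M) := Groth.L16.QcqsPush.isQCoh_push M σ
  let ι : Type u := Option {V : P.affineOpens // x ∉ V.1}
  let V : ι → P.Opens := fun i => i.elim U.1 fun V => V.1.1
  have haff : ∀ i : ι, IsAffineOpen (V i) := fun i => by
    cases i with
    | none => exact U.2
    | some W => exact W.1.2
  have hinf : ∀ (n : ℕ) (a : Fin (n + 1) → ι), IsAffineOpen (⨅ j, V (a j)) :=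
    fun n a => IsAffineOpen.iInf fun j => haff _
  have hV : ⨆ i, V i = ⊤ := by
    refine eq_top_iff.2 fun y _ => ?_
    by_cases hy : y ∈ U.1
    · exact Opens.mem_iSup.2 ⟨none, hy⟩
    · have hyx : y ≠ x := fun h => hy (h ▸ hxU)
      obtain ⟨W, hW, hyW, hWle⟩ := exists_isAffineOpen_mem_and_subset (x := y)
        (U := (⟨{x}ᶜ, hx.isOpen_compl⟩ : P.Opens)) hyx
      exact Opens.mem_iSup.2 ⟨some ⟨⟨W, hW⟩, fun h => hWle h rfl⟩, hyW⟩
  refine Groth.L16.PushCompare.exists_HH_push σ M V hV (fun n a q => ?_)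
    (fun n a q => subsingleton_of_forall_eq 0 (Groth.L17.hu_affine_eq_zero _ (hinf n a) q)) p
  by_cases hall : ∀ j, a j = none
  · have e : (⨅ j, V (a j)) = U.1 := by
      simp [V, hall]
    rw [e]
    exact hu_preimage_pair hb f hI M hg q
  · push Not at hall
    obtain ⟨j, hj⟩ := hall
    obtain ⟨W, hW⟩ := Option.ne_none_iff_exists'.1 hj
    refine hu_preimage_of_notMem hb M (hinf n a) (fun hxI => W.2 ?_) q
    have := (iInf_le (fun j => V (a j)) j) hxI
    simpa [V, hW] using this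

end Groth.L13.PointBlow
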