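import Groth.Agent.L21.Modules
import Groth.Agent.L21.RR.Coh
import Groth.Agent.L21.RR.Sections
import Groth.Agent.L18.GlobGen
import Groth.Agent.L03.Euler.Twist
import Groth.Agent.L00.TensorMod

/-!
# The Koszul sequence of two sections generating an invertible module
-/

set_option autoImplicit false
set_option linter.style.haveILetI false
set_option backward.isDefEq.respectTransparency false

universe u

open CategoryTheory CategoryTheory.Limits MonoidalCategory AlgebraicGeometry TopologicalSpace Opposite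
open Groth.L18.Frame (IsFrame rs ro rs_self rs_rs rs_smul)
open Groth.L18.GenLoc (tens tens_rs tens_smul_left tens_smul_right isFrame_tens)
open Groth.L21.RR (bijective_germ_frame)
open Groth.L16.CohLinear (hmap delta)
open Groth.L21.Mod (stalkF stalkF_map_germ shortExact_iff_stalk)

noncomputable section

namespace Groth.L13.PointBlow

variable {X : Scheme.{u}}

theorem tens_add_right {L M : X.Modules} {U : X.Opens} (m : Γ(L, U)) (n n' : Γ(M, U)) :
    tens L M U m (n + n') = tens L M U m n + tens L M U m n' :=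
  Groth.L00.Tensor.ev_add₂ (Groth.L00.Tensor.unit (Groth.L00.Tensor.pre L ⊗ Groth.L00.Tensor.pre M)) (op U) m n n'

/-- A map of modules given on all opens. -/
theorem exists_hom_app {M N : X.Modules} (φ : ∀ W : X.Opens, Γ(M, W) →+ Γ(N, W))
    (hnat : ∀ (V W : X.Opens) (h : V ≤ W) (m : Γ(M, W)), φ V (rs M h m) = rs N h (φ W m))
    (hsmul : ∀ W (r : Γ(X, W)) (m : Γ(M, W)), φ W (r • m) = r • φ W m) :
    ∃ Φ : M ⟶ N, ∀ W m, Φ.app W m = φ W m := by
  obtain ⟨Φ, hΦ, -⟩ := Groth.L21.Mod.existsUnique_hom (U := fun _ : PUnit.{u + 1} => (⊤ : X.Opens))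
    (iSup_const) (fun _ W _ => AddCommGrpCat.ofHom (φ W)) (fun _ _ V W hV hW h => by
      ext m
      exact hnat V W h m) (fun _ W _ r m => hsmul W r m)
  exact ⟨Φ, fun W m => by rw [hΦ PUnit.unit W le_top]; rfl⟩

/-- Multiplication by a global section, on the structure sheaf. -/
theorem exists_mulO {N : X.Modules} (s : Γ(N, ⊤)) :
    ∃ Φ : Coh.structureModule X ⟶ N, ∀ (W : X.Opens) (r : Γ(X, W)), Φ.app W r = r • rs N le_top s :=
  exists_hom_app (M := Coh.structureModule X)
    (fun W => AddMonoidHom.mk' (fun r : Γ(Coh.structureModule X, W) => (show Γ(X, W) from r) • rs N le_top s)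
      fun a b => add_smul (show Γ(X, W) from a) (show Γ(X, W) from b) _)
    (fun V W h r => by
      show ro h r • rs N le_top s = rs N h ((show Γ(X, W) from r) • rs N le_top s)
      rw [rs_smul, rs_rs])
    (fun W r m => mul_smul r (show Γ(X, W) from m) _)

/-- Multiplication by a global section. -/
theorem exists_mulN {N : X.Modules} (s : Γ(N, ⊤)) :
    ∃ Φ : N ⟶ CohB1.tensorMod N N, ∀ (W : X.Opens) (m : Γ(N, W)), Φ.app W m = tens N N W (rs N le_top s) m :=
  exists_hom_app (fun W => AddMonoidHom.mk' (fun m : Γ(N, W) => tens N N W (rs N le_top s) m)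
      fun a b => tens_add_right _ a b)
    (fun V W h m => by
      show tens N N V _ _ = rs _ h (tens N N W _ m)
      rw [tens_rs, rs_rs])
    (fun W r m => tens_smul_right r _ m)

/-- A map sending a frame to a frame is bijective on the stalk. -/
theorem bijective_stalk_of_frame {M N : X.Modules} (Φ : M ⟶ N) {W : X.Opens} {z : X} (hz : z ∈ W)
    {e : Γ(M, W)} {f : Γ(N, W)} (he : IsFrame M W e) (hf : IsFrame N W f) (h : Φ.app W e = f) :
    Function.Bijective ((stalkF X z).map Φ) := by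
  have h1 : ∀ r : X.presheaf.stalk z, (stalkF X z).map Φ (r • M.presheaf.germ W z hz e) =
      r • N.presheaf.germ W z hz f := by
    intro r
    show Groth.L21.RR.st Φ z (r • M.presheaf.germ W z hz e) = _
    rw [map_smul, Groth.L21.RR.st_germ, h]
  have h2 : Function.Bijective ((stalkF X z).map Φ ∘ fun r : X.presheaf.stalk z => r • M.presheaf.germ W z hz e) := by
    rw [show ((stalkF X z).map Φ ∘ fun r : X.presheaf.stalk z => r • M.presheaf.germ W z hz e) =
      fun r => r • N.presheaf.germ W z hz f from funext h1]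
    exact bijective_germ_frame hf hz
  exact (Function.Bijective.of_comp_iff _ (bijective_germ_frame he hz)).1 h2

/-- In an additive category: two maps out and two maps in, one pair of which is invertible. -/
theorem shortExact_of_iso {A B C : AddCommGrpCat.{u}} (a0 a1 : A ⟶ B) (c0 c1 : B ⟶ C) (hc : a1 ≫ c0 = a0 ≫ c1)
    (D : AddCommGrpCat.{u}) (i1 i2 : B ⟶ D) (p1 p2 : D ⟶ B) (h11 : i1 ≫ p1 = 𝟙 B) (h22 : i2 ≫ p2 = 𝟙 B)
    (h12 : i1 ≫ p2 = 0) (h21 : i2 ≫ p1 = 0) (htot : p1 ≫ i1 + p2 ≫ i2 = 𝟙 D) (f : A ⟶ D) (g : D ⟶ C)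
    (hf : f = a1 ≫ i1 - a0 ≫ i2) (hg : g = p1 ≫ c0 + p2 ≫ c1) (w : f ≫ g = 0)
    (h : (IsIso a1 ∧ IsIso c1) ∨ (IsIso a0 ∧ IsIso c0)) : (ShortComplex.mk f g w).ShortExact := by
  rcases h with ⟨_, _⟩ | ⟨_, _⟩
  · refine ShortComplex.Splitting.shortExact
      { r := p1 ≫ inv a1
        s := inv c1 ≫ i2
        f_r := by simp [hf, reassoc_of% h11, reassoc_of% h21]
        s_g := by simp [hg, reassoc_of% h21, reassoc_of% h22]
        id := ?_ }
    show (p1 ≫ inv a1) ≫ f + g ≫ inv c1 ≫ i2 = 𝟙 D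
    have e : inv a1 ≫ a0 = c0 ≫ inv c1 := by
      rw [IsIso.inv_comp_eq, ← Category.assoc, hc, Category.assoc, IsIso.hom_inv_id, Category.comp_id]
    rw [hf, hg]
    simp only [Preadditive.add_comp, Preadditive.comp_sub, Category.assoc, IsIso.inv_hom_id_assoc,
      IsIso.hom_inv_id_assoc]
    rw [← Category.assoc (inv a1) a0, e, Category.assoc, ← htot]
    abel
  · refine ShortComplex.Splitting.shortExact
      { r := -(p2 ≫ inv a0)
        s := inv c0 ≫ i1
        f_r := by simp [hf, reassoc_of% h12, reassoc_of% h22]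
        s_g := by simp [hg, reassoc_of% h11, reassoc_of% h12]
        id := ?_ }
    show (-(p2 ≫ inv a0)) ≫ f + g ≫ inv c0 ≫ i1 = 𝟙 D
    have e : inv a0 ≫ a1 = c1 ≫ inv c0 := by
      rw [IsIso.inv_comp_eq, ← Category.assoc, ← hc, Category.assoc, IsIso.hom_inv_id, Category.comp_id]
    rw [hf, hg]
    simp only [Preadditive.add_comp, Preadditive.comp_sub, Preadditive.neg_comp, Category.assoc,
      IsIso.inv_hom_id_assoc, IsIso.hom_inv_id_assoc]
    rw [← Category.assoc (inv a0) a1, e, Category.assoc, ← htot]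
    abel

/-- The Koszul sequence `0 → O → N ⊕ N → N ⊗ N → 0` of two generating sections. -/
theorem exists_koszul {N : X.Modules} (hN : PicF.IsInvertible N) (s : Fin 2 → Γ(N, ⊤))
    (hs : ∀ z : X, ∃ (i : Fin 2) (W : X.Opens), z ∈ W ∧ IsFrame N W (rs N le_top (s i))) :
    ∃ (f : Coh.structureModule X ⟶ N ⊞ N) (g : N ⊞ N ⟶ CohB1.tensorMod N N) (w : f ≫ g = 0),
      (ShortComplex.mk f g w).ShortExact := by
  choose μ hμ using fun i => exists_mulO (s i)
  choose ν hν using fun i => exists_mulN (s i)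
  have hc : μ 1 ≫ ν 0 = μ 0 ≫ ν 1 := by
    have key : ∀ (W : X.Opens) (r : Γ(X, W)) (i j : Fin 2), ((μ j ≫ ν i).app W) r =
        r • tens N N W (rs N le_top (s i)) (rs N le_top (s j)) := by
      intro W r i j
      show (ν i).app W ((μ j).app W r) = _
      rw [hμ, hν, tens_smul_right]
    ext W r
    rw [key, key]
    congr 1
    refine Groth.L21.Extend.eq_of_locally (CohB1.tensorMod N N) _ _ fun y hy => ?_
    obtain ⟨V₀, e, hyV₀, he⟩ := Groth.L18.Frame.exists_frame hN y
    refine ⟨W ⊓ V₀, inf_le_left, ⟨hy, hyV₀⟩, ?_⟩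
    change rs _ inf_le_left _ = rs _ inf_le_left _
    rw [tens_rs, tens_rs, rs_rs, rs_rs]
    obtain ⟨a, ha⟩ := he.exists_coeff (inf_le_right : W ⊓ V₀ ≤ V₀) (rs N le_top (s 0))
    obtain ⟨b, hb⟩ := he.exists_coeff (inf_le_right : W ⊓ V₀ ≤ V₀) (rs N le_top (s 1))
    rw [← ha, ← hb, tens_smul_left, tens_smul_left, tens_smul_right, tens_smul_right, smul_comm]
  let f : Coh.structureModule X ⟶ N ⊞ N := μ 1 ≫ biprod.inl - μ 0 ≫ biprod.inr
  let g : N ⊞ N ⟶ CohB1.tensorMod N N := biprod.fst ≫ ν 0 + biprod.snd ≫ ν 1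
  have w : f ≫ g = 0 := by simp [f, g, hc]
  refine ⟨f, g, w, (shortExact_iff_stalk _).2 fun z => ?_⟩
  let F := stalkF X z
  refine shortExact_of_iso (F.map (μ 0)) (F.map (μ 1)) (F.map (ν 0)) (F.map (ν 1))
    (by rw [← F.map_comp, ← F.map_comp, hc]) (F.obj (N ⊞ N)) (F.map biprod.inl) (F.map biprod.inr)
    (F.map biprod.fst) (F.map biprod.snd)
    (by rw [← F.map_comp, biprod.inl_fst, F.map_id]) (by rw [← F.map_comp, biprod.inr_snd, F.map_id])
    (by rw [← F.map_comp, biprod.inl_snd, F.map_zero]) (by rw [← F.map_comp, biprod.inr_fst, F.map_zero])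
    (by rw [← F.map_comp, ← F.map_comp, ← F.map_add, biprod.total, F.map_id])
    (F.map f) (F.map g) (by simp [f]) (by simp [g]) (by rw [← F.map_comp, w, F.map_zero]) ?_
  obtain ⟨i, W, hzW, hW⟩ := hs z
  have h1 : IsIso (F.map (μ i)) := (ConcreteCategory.isIso_iff_bijective _).2
    (bijective_stalk_of_frame (μ i) hzW ((Groth.L21.RR.isFrame_oneSec (X := X)).mono (le_top : W ≤ ⊤)) hW (by
      rw [hμ i W]
      show (ro (le_top : W ≤ ⊤) (1 : Γ(X, ⊤))) • rs N le_top (s i) = _
      rw [show ro (le_top : W ≤ ⊤) (1 : Γ(X, ⊤)) = 1 from map_one (X.presheaf.map (homOfLE le_top).op).hom, one_smul]))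
  have h2 : IsIso (F.map (ν i)) := (ConcreteCategory.isIso_iff_bijective _).2
    (bijective_stalk_of_frame (ν i) hzW hW (isFrame_tens hW hW) (hν i W _))
  fin_cases i
  · exact Or.inr ⟨h1, h2⟩
  · exact Or.inl ⟨h1, h2⟩

section Vanish

variable {S : ShortComplex X.Modules} (hS : S.ShortExact)

include hS in
theorem subsingleton_mid (n : ℕ) (h1 : Subsingleton (Coh.HH X S.X₁ n)) (h3 : Subsingleton (Coh.HH X S.X₃ n)) :
    Subsingleton (Coh.HH X S.X₂ n) := by
  refine subsingleton_of_forall_eq 0 fun y => ?_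
  obtain ⟨a, rfl⟩ := ((Groth.L16.CohLinear.exact_hmap_hmap hS n) y).1 (Subsingleton.elim _ _)
  rw [Subsingleton.elim a 0, map_zero]

include hS in
theorem subsingleton_right (n : ℕ) (h2 : Subsingleton (Coh.HH X S.X₂ n))
    (h1 : Subsingleton (Coh.HH X S.X₁ (n + 1))) : Subsingleton (Coh.HH X S.X₃ n) := by
  refine subsingleton_of_forall_eq 0 fun y => ?_
  obtain ⟨a, rfl⟩ := ((Groth.L16.CohLinear.exact_hmap_delta hS n) y).1 (Subsingleton.elim _ _)
  rw [Subsingleton.elim a 0, map_zero]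

include hS in
theorem subsingleton_left_succ (n : ℕ) (h3 : Subsingleton (Coh.HH X S.X₃ n))
    (h2 : Subsingleton (Coh.HH X S.X₂ (n + 1))) : Subsingleton (Coh.HH X S.X₁ (n + 1)) := by
  refine subsingleton_of_forall_eq 0 fun y => ?_
  obtain ⟨a, rfl⟩ := ((Groth.L16.CohLinear.exact_delta_hmap hS n) y).1 (Subsingleton.elim _ _)
  rw [Subsingleton.elim a 0, map_zero]

include hS in
theorem subsingleton_left_zero (h2 : Subsingleton (Coh.HH X S.X₂ 0)) : Subsingleton (Coh.HH X S.X₁ 0) := by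
  haveI := hS.mono_f
  exact (Groth.L21.RR.injective_hmap_zero S.f).subsingleton

end Vanish

/-- No cohomology at all. -/
def Acyclic (M : X.Modules) : Prop := ∀ n, Subsingleton (Coh.HH X M n)

theorem Acyclic.of_iso {M N : X.Modules} (h : Acyclic M) (e : M ≅ N) : Acyclic N := fun n =>
  haveI := h n
  Function.Injective.subsingleton (f := hmap e.inv n) fun a b hab => by
    have := congrArg (hmap e.hom n) hab
    rwa [← Groth.L16.CohLinear.hmap_comp, ← Groth.L16.CohLinear.hmap_comp, e.inv_hom_id,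
      Groth.L16.CohLinear.hmap_id, Groth.L16.CohLinear.hmap_id] at this

theorem acyclic_of_left_mid {S : ShortComplex X.Modules} (hS : S.ShortExact) (h1 : Acyclic S.X₁)
    (h2 : Acyclic S.X₂) : Acyclic S.X₃ := fun n => subsingleton_right hS n (h2 n) (h1 _)

theorem acyclic_of_mid_right {S : ShortComplex X.Modules} (hS : S.ShortExact) (h2 : Acyclic S.X₂)
    (h3 : Acyclic S.X₃) : Acyclic S.X₁ := fun n => by
  rcases n with _ | n
  · exact subsingleton_left_zero hS (h2 0)
  · exact subsingleton_left_succ hS n (h3 n) (h2 _)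

theorem acyclic_tensor_biprod {M N : X.Modules} (hM : PicF.IsInvertible M)
    (h : Acyclic (CohB1.tensorMod N M)) : Acyclic (CohB1.tensorMod (N ⊞ N) M) := by
  let S : ShortComplex X.Modules := ShortComplex.mk (biprod.inl : N ⟶ N ⊞ N) biprod.snd biprod.inl_snd
  let sp : S.Splitting :=
    { r := biprod.fst
      s := biprod.inr
      f_r := biprod.inl_fst
      s_g := biprod.inr_snd
      id := biprod.total }
  exact fun n => subsingleton_mid (Groth.L03.Euler.shortExact_tensor hM sp.shortExact) n (h n) (h n)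

/-- Acyclicity propagates along the Koszul sequence. -/
theorem acyclic_step {N M : X.Modules} (hN : PicF.IsInvertible N) (hM : PicF.IsInvertible M) (s : Fin 2 → Γ(N, ⊤))
    (hs : ∀ z : X, ∃ (i : Fin 2) (W : X.Opens), z ∈ W ∧ IsFrame N W (rs N le_top (s i)))
    (h1 : Acyclic (CohB1.tensorMod M N)) :
    (Acyclic M → Acyclic (CohB1.tensorMod (CohB1.tensorMod M N) N)) ∧
      (Acyclic (CohB1.tensorMod (CohB1.tensorMod M N) N) → Acyclic M) := by
  obtain ⟨f, g, w, hS⟩ := exists_koszul hN s hs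
  have hT := Groth.L03.Euler.shortExact_tensor hM hS
  have h2 := acyclic_tensor_biprod hM (h1.of_iso (Groth.L00.Tensor.tensorComm M N))
  have e3 : CohB1.tensorMod (CohB1.tensorMod N N) M ≅ CohB1.tensorMod (CohB1.tensorMod M N) N :=
    Groth.L00.Tensor.tensorComm _ _ ≪≫ (Groth.L00.Tensor.tensorAssoc M N N).symm
  refine ⟨fun h => ?_, fun h => ?_⟩
  · exact (acyclic_of_left_mid hT (h.of_iso (Groth.L00.Tensor.tensorUnitLeft M).symm) h2).of_iso e3
  · exact (acyclic_of_mid_right hT h2 (h.of_iso e3.symm)).of_iso (Groth.L00.Tensor.tensorUnitLeft M)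

end Groth.L13.PointBlow
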