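import Groth.Agent.L13.PointBlow.Twist
import Groth.Agent.L13.PointBlow.Koszul
import Groth.Agent.L22.Reg.Mult
import Groth.Agent.L22.Ideal
import Groth.Agent.L03.BlowPt.Except
import Groth.Agent.L16.HomSh.Adjunction

/-!
# Sections of `σ^*L ⊗ I_E` from sections vanishing at the centre
-/

set_option autoImplicit false
set_option linter.style.haveILetI false
set_option backward.isDefEq.respectTransparency false

universe u

open CategoryTheory CategoryTheory.Limits AlgebraicGeometry TopologicalSpace Opposite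
open Groth.L18.Frame (IsFrame rs ro rs_self rs_rs rs_smul pull pull_rs pull_smul)
open Groth.L18.GenLoc (tens tens_rs tens_smul_left tens_smul_right isFrame_tens)
open Groth.Agent.L19.IdealInvertible (io io_smul io_inj io_rs)
open Groth.L00.Tensor (tensorMap tensorUnitLeft)
open Groth.L03.BlowPt (ptI exc)

noncomputable section

namespace Groth.L13.PointBlow

variable {X : Scheme.{u}}

/-- Multiplication `I ⊗ L ⟶ L`. -/
def mulI (I : X.IdealSheafData) (L : X.Modules) : CohB1.tensorMod (ClSub.idealMod I) L ⟶ L :=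
  tensorMap (ClSub.idealModι I) (𝟙 L) ≫ (tensorUnitLeft L).hom

theorem mulI_tens (I : X.IdealSheafData) (L : X.Modules) (V : X.Opens) (m : Γ(ClSub.idealMod I, V)) (a : Γ(L, V)) :
    (mulI I L).app V (tens _ L V m a) = io I V m • a := by
  show (tensorUnitLeft L).hom.app V ((tensorMap (ClSub.idealModι I) (𝟙 L)).app V (tens _ L V m a)) = _
  rw [Groth.L16.HomSh.tensorMap_tens]
  exact Groth.L22.Reg.tensorUnitLeft_tens L V (io I V m) a

theorem mulI_rs (I : X.IdealSheafData) (L : X.Modules) {V W : X.Opens} (h : V ≤ W)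
    (n : Γ(CohB1.tensorMod (ClSub.idealMod I) L, W)) :
    rs L h ((mulI I L).app W n) = (mulI I L).app V (rs _ h n) :=
  (congr($((mulI I L).mapPresheaf.naturality (homOfLE h).op) n)).symm

theorem injective_mulI {I : X.IdealSheafData} {L : X.Modules} (hI : PicF.IsInvertible (ClSub.idealMod I))
    (hL : PicF.IsInvertible L) (W : X.Opens) : Function.Injective ((mulI I L).app W) := by
  intro n n' hnn
  refine Groth.L21.Extend.eq_of_locally (CohB1.tensorMod (ClSub.idealMod I) L) _ _ fun y hy => ?_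
  obtain ⟨V₁, a, hyV₁, ha⟩ := Groth.L18.Frame.exists_frame hL y
  obtain ⟨V₂, m, hyV₂, hm⟩ := Groth.L18.Frame.exists_frame hI y
  let V := W ⊓ (V₁ ⊓ V₂)
  have h1 : V ≤ V₁ := inf_le_right.trans inf_le_left
  have h2 : V ≤ V₂ := inf_le_right.trans inf_le_right
  refine ⟨V, inf_le_left, ⟨hy, hyV₁, hyV₂⟩, ?_⟩
  have hf := isFrame_tens (hm.mono h2) (ha.mono h1)
  obtain ⟨r, hr⟩ := hf.exists_coeff le_rfl (rs (CohB1.tensorMod (ClSub.idealMod I) L) (inf_le_left : V ≤ W) n)
  obtain ⟨r', hr'⟩ := hf.exists_coeff le_rfl (rs (CohB1.tensorMod (ClSub.idealMod I) L) (inf_le_left : V ≤ W) n')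
  rw [rs_self] at hr hr'
  have e := congrArg (rs L (inf_le_left : V ≤ W)) hnn
  rw [mulI_rs, mulI_rs, ← hr, ← hr', Scheme.Modules.Hom.app_smul, Scheme.Modules.Hom.app_smul, mulI_tens,
    smul_smul, smul_smul] at e
  have e2 : r * io I V (rs _ h2 m) = r' * io I V (rs _ h2 m) :=
    (ha.mono h1).inj le_rfl (by rw [rs_self]; exact e)
  rw [← io_smul, ← io_smul] at e2
  have e3 : r = r' := (hm.mono h2).inj le_rfl (by rw [rs_self]; exact io_inj I V e2)
  show rs _ inf_le_left n = rs _ inf_le_left n'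
  rw [← hr, ← hr', e3]

variable {P : Scheme.{u}} {x : P} {hx : IsClosed ({x} : Set P)} {σ : X ⟶ P}

/-- Sections of `L` cutting out the centre give generating sections of `σ^*L ⊗ I_E`. -/
theorem exists_lift (hb : BlowUp.IsBlowUp σ (ptI hx)) {L : P.Modules} (hL : PicF.IsInvertible L)
    (U : P.affineOpens) (e : Γ(L, U.1)) (t : Fin 2 → Γ(L, ⊤)) (f : Fin 2 → Γ(P, U.1))
    (hxU : x ∈ U.1) (hI : (ptI hx).ideal U = Groth.L11.BlowSmooth.sI f) (he : IsFrame L U.1 e)
    (ht : ∀ i, rs L le_top (t i) = f i • e)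
    (hgen : ∀ z : P, z ≠ x → ∃ (i : Fin 2) (W : P.Opens), z ∈ W ∧ x ∉ W ∧ IsFrame L W (rs L le_top (t i))) :
    ∃ s : Fin 2 → Γ(CohB1.tensorMod (ClSub.idealMod (exc hx σ)) ((Scheme.Modules.pullback σ).obj L), ⊤),
      ∀ z : X, ∃ (i : Fin 2) (W : X.Opens), z ∈ W ∧ IsFrame _ W (rs _ le_top (s i)) := by
  have hE : PicF.IsInvertible (ClSub.idealMod (exc hx σ)) := (Groth.Agent.L19.IdealInvertible.isEffCartier_iff _).2 hb.1
  let I := exc hx σ
  let M := (Scheme.Modules.pullback σ).obj L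
  have hM : PicF.IsInvertible M := Groth.L18.Ample.isInvertible_pullback σ hL
  let τ : Fin 2 → Γ(M, ⊤) := fun i => pull σ L ⊤ (t i)
  have hpull : ∀ (i : Fin 2) {W : P.Opens} {V : X.Opens} (h : V ≤ σ ⁻¹ᵁ W),
      rs M le_top (τ i) = rs M h (pull σ L W (rs L le_top (t i))) := fun i W V h => by
    rw [← pull_rs σ L (le_top : W ≤ ⊤), rs_rs]
    rfl
  let N := CohB1.tensorMod (ClSub.idealMod I) M
  have key : ∀ z : X, ∃ (V : X.Opens) (n : Fin 2 → Γ(N, V)), z ∈ V ∧
      (∀ i, (mulI I M).app V (n i) = rs M le_top (τ i)) ∧ ∃ i, IsFrame N V (n i) := by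
    intro z
    by_cases hz : σ z = x
    · obtain ⟨V, g, hzV, hVU, hg, hIV⟩ := exists_gen hE (σ ⁻¹ᵁ U.1) z (show σ z ∈ U.1 from hz ▸ hxU)
      let a : Γ(M, V.1) := rs M hVU (pull σ L U.1 e)
      have ha : IsFrame M V.1 a := (he.pullback σ).mono hVU
      have hIVf : (exc hx σ).ideal V = Ideal.span (Set.range fun i => σ.appLE U.1 V.1 hVU (f i)) := by
        rw [exc, BlowUp.exceptional, Groth.L22.Ideals.comap_ideal σ (ptI hx) U V hVU, hI,
          Groth.L11.BlowSmooth.sI, Ideal.map_span, ← Set.range_comp]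
        rfl
      have hfm : ∀ i, ∃ c : Γ(X, V.1), c * io I V.1 g = σ.appLE U.1 V.1 hVU (f i) := fun i =>
        Ideal.mem_span_singleton'.1 (hIV ▸ hIVf.symm ▸ Ideal.subset_span ⟨i, rfl⟩)
      choose c hc using hfm
      obtain ⟨b, hb'⟩ : ∃ b : Fin 2 → Γ(X, V.1), ∑ i, b i * σ.appLE U.1 V.1 hVU (f i) = io I V.1 g :=
        Ideal.mem_span_range_iff_exists_fun.1 (hIVf ▸ hIV.symm ▸ Ideal.mem_span_singleton_self _)
      have hsum : ∑ i, b i * c i = 1 := by
        refine hg.inj le_rfl (io_inj I V.1 ?_)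
        rw [rs_self, one_smul, io_smul, Finset.sum_mul]
        refine Eq.trans (Finset.sum_congr rfl fun i _ => ?_) hb'
        rw [mul_assoc, hc]
      have hn : ∀ i, (mulI I M).app V.1 (tens _ M V.1 (c i • g) a) = rs M le_top (τ i) := fun i => by
        rw [mulI_tens, io_smul, hc, hpull i hVU, ht, pull_smul, rs_smul]
        rfl
      obtain ⟨i, hi⟩ : ∃ i, IsUnit (X.presheaf.germ V.1 z hzV (c i)) := by
        by_contra hno
        push Not at hno
        have h1 : X.presheaf.germ V.1 z hzV (∑ i, b i * c i) ∈ IsLocalRing.maximalIdeal (X.presheaf.stalk z) := by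
          rw [map_sum]
          exact sum_mem fun i _ => by
            rw [map_mul]
            exact Ideal.mul_mem_left _ _ ((IsLocalRing.mem_maximalIdeal _).2 (hno i))
        rw [hsum, map_one] at h1
        exact (IsLocalRing.maximalIdeal.isMaximal _).ne_top ((Ideal.eq_top_iff_one _).2 h1)
      have hle : X.basicOpen (c i) ≤ V.1 := X.basicOpen_le _
      refine ⟨X.basicOpen (c i), fun l => rs N hle (tens _ M V.1 (c l • g) a),
        (Scheme.mem_basicOpen _ _ z hzV).2 hi, fun l => ?_, i, ?_⟩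
      · rw [← mulI_rs, hn, rs_rs]
      · show IsFrame N _ (rs N hle _)
        rw [tens_rs, rs_smul, tens_smul_left]
        exact (isFrame_tens (hg.mono hle) (ha.mono hle)).smul_unit
          (RingedSpace.isUnit_res_basicOpen X.toRingedSpace (c i))
    · obtain ⟨i, W, hzW, hxW, hW⟩ := hgen (σ z) hz
      obtain ⟨V, g, hzV, hVW, hg, hIV⟩ := exists_gen hE (σ ⁻¹ᵁ W) z hzW
      obtain ⟨m, hm⟩ := (Groth.L18.IdealModule.mem_ideal_iff I V.2 1).1 (by
        have htop : (exc hx σ).comap V.1.ι = ⊤ := by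
          rw [exc, BlowUp.exceptional, ← Scheme.IdealSheafData.comap_comp]
          refine Groth.L22.Ideals.comap_eq_top _ _ fun y hy => hxW ?_
          have h0 : σ (V.1.ι y) ∈ ((ptI hx).support : Set P) := hy
          have h1 : σ (V.1.ι y) = x := by simpa [ptI] using h0
          exact h1 ▸ hVW y.2
        have h2 := Groth.L22.Ideals.comap_ideal_ι (exc hx σ) V
        rw [htop, Scheme.IdealSheafData.ideal_top] at h2
        have h3 := congrArg (Ideal.map V.1.topIso.hom.hom) h2.symm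
        rw [Ideal.map_map, ← CommRingCat.hom_comp, Iso.inv_hom_id, CommRingCat.hom_id, Ideal.map_id] at h3
        show (1 : Γ(X, V.1)) ∈ (exc hx σ).ideal V
        rw [h3]
        exact (Ideal.eq_top_iff_one _).1 (Ideal.map_top _))
      have hmf : IsFrame (ClSub.idealMod I) V.1 m := Groth.L13.BlowP1.isFrame_of_span hE m fun V' hV' hle => by
        rw [io_rs, show io I V.1 m = 1 from hm, show ∀ h : V' ≤ V.1, Groth.L21.Extend.rO X h (1 : Γ(X, V.1)) = 1 from
          fun h => map_one (X.presheaf.map (homOfLE h).op).hom, Ideal.span_singleton_one]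
        exact le_top
      refine ⟨V.1, fun l => tens _ M V.1 m (rs M le_top (τ l)), hzV, fun l => ?_, i, ?_⟩
      · rw [mulI_tens, show io I V.1 m = 1 from hm, one_smul]
      · refine isFrame_tens hmf ?_
        rw [hpull i hVW]
        exact (hW.pullback σ).mono hVW
  choose V n hzV hn hfr using key
  have hcov : (⊤ : X.Opens) ≤ iSup V := fun y _ => Opens.mem_iSup.2 ⟨y, hzV y⟩
  let ON : TopCat.Sheaf Ab.{u} X.toTopCat := ⟨N.presheaf, N.isSheaf⟩
  have hglue : ∀ i : Fin 2, ∃ s : Γ(N, ⊤), ∀ z, rs N le_top s = n z i := by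
    intro i
    obtain ⟨s, hs, -⟩ := ON.existsUnique_gluing' V ⊤ (fun y => homOfLE le_top) hcov (fun z => n z i) fun z z' => by
      show rs N inf_le_left (n z i) = rs N inf_le_right (n z' i)
      refine injective_mulI hE hM _ ?_
      rw [← mulI_rs, ← mulI_rs, hn, hn, rs_rs, rs_rs]
    exact ⟨s, hs⟩
  choose s hs using hglue
  refine ⟨s, fun z => ?_⟩
  obtain ⟨i, hi⟩ := hfr z
  exact ⟨i, V z, hzV z, (hs i z).symm ▸ hi⟩

end Groth.L13.PointBlow
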