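import Groth.Agent.L13.PointBlow.Acyclic
import Groth.Agent.L02.Canon.Pushforward
import Groth.Agent.L16.Blow.Integral
import Groth.Agent.S2422
import Groth.Agent.L03.Euler.Push
import Groth.Agent.L21.RR.Coh

/-!
# Cohomology of pullbacks along a point blow-up of a normal surface
-/

set_option autoImplicit false
set_option linter.style.haveILetI false
set_option backward.isDefEq.respectTransparency false

universe u

open CategoryTheory CategoryTheory.Limits AlgebraicGeometry TopologicalSpace Opposite

noncomputable section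

namespace Groth.L13.PointBlow

open Groth.L03.BlowPt (ptI)
open Groth.L21.RR (h)

variable {X P : Scheme.{u}} {x : P} {hx : IsClosed ({x} : Set P)} {σ : X ⟶ P}

/-- Functions on a blow-up of a normal integral scheme come from the base. -/
theorem bijective_app [IsIntegral P] [UniversallyClosed σ] (hP : Pi1.IsNormalScheme P)
    (hb : BlowUp.IsBlowUp σ (ptI hx)) (hne : ptI hx ≠ ⊥) (V : P.Opens) : Function.Bijective (σ.app V) := by
  obtain ⟨_, he, hiso⟩ := Groth.L16.Blow.isIntegral_and_birational hb hne
  refine Groth.L17.bijective_app_of_affine σ (Groth.Agent.S2422.bijective_app_affine hP σ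
    (specializes_of_eq he) fun z _ => ?_) V
  haveI := hiso
  haveI : IsIso (P.presheaf.stalkSpecializes (specializes_of_eq he)) :=
    (P.presheaf.stalkCongr (.of_eq he)).symm.isIso_hom
  exact (((ConcreteCategory.isIso_iff_bijective
    (P.presheaf.stalkSpecializes (specializes_of_eq he) ≫ σ.stalkMap (genericPoint X))).1 inferInstance)).2 z

theorem gg_restrict_pullback (σ : X ⟶ P) (U : P.affineOpens) (L : P.Modules) [Coh.IsQCoh L] :
    Curv2.IsGloballyGenerated (((Scheme.Modules.pullback σ).obj L).restrict (preι σ U)) := by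
  haveI := Groth.L16.AffineBC.isQCoh_pullback U.2.fromSpec L
  have h := gg_pullback (pullback.fst U.2.fromSpec σ)
    (Groth.L18.Ample.isGloballyGenerated_of_isQuasiAffine ((Scheme.Modules.pullback U.2.fromSpec).obj L))
  refine Groth.L18.Ample.isGloballyGenerated_of_iso ?_ h
  exact (Scheme.Modules.pullbackComp (pullback.fst U.2.fromSpec σ) U.2.fromSpec).app L ≪≫
    (Scheme.Modules.pullbackCongr pullback.condition).app L ≪≫
    ((Scheme.Modules.pullbackComp (preι σ U) σ).app L).symm ≪≫
    ((Scheme.Modules.restrictFunctorIsoPullback (preι σ U)).app _).symm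

variable (k : Type u) [Field k] [X.Over (Spec (CommRingCat.of k))] [P.Over (Spec (CommRingCat.of k))]

theorem h_push [P.IsSeparated] [QuasiCompact σ] [QuasiSeparated σ]
    (hσk : σ ≫ (P ↘ Spec (CommRingCat.of k)) = X ↘ Spec (CommRingCat.of k))
    (hb : BlowUp.IsBlowUp σ (ptI hx)) {U : P.affineOpens} (hxU : x ∈ U.1) (f : Fin 2 → Γ(P, U.1))
    (hI : (ptI hx).ideal U = Groth.L11.BlowSmooth.sI f) (M : X.Modules) [Coh.IsQCoh M]
    (hg : Curv2.IsGloballyGenerated (M.restrict (preι σ U))) (p : ℕ) :
    h k p M = h k p ((Coh.push σ).obj M) := by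
  obtain ⟨e, he⟩ := exists_HH_push hb hxU f hI M hg p
  let e' : Coh.HH X M p ≃ₗ[k] Coh.HH P ((Coh.push σ).obj M) p :=
    { e with
      map_smul' := fun a z => by
        have h0 : Coh.toGlobal (X ↘ Spec (CommRingCat.of k)) a =
            (show Coh.Γtop X from σ.appTop (Coh.toGlobal (P ↘ Spec (CommRingCat.of k)) a)) :=
          congrArg (fun g : X ⟶ Spec (CommRingCat.of k) => Coh.toGlobal g a) hσk.symm
        exact (congrArg e (congrArg (fun c : Coh.Γtop X => c • z) h0)).trans
          (he (Coh.toGlobal (P ↘ Spec (CommRingCat.of k)) a) z) }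
  exact e'.finrank_eq

/-- Pullback along a point blow-up does not change the cohomology of invertible modules. -/
theorem h_pullback [IsIntegral P] [P.IsSeparated] [IsProper σ] (hP : Pi1.IsNormalScheme P)
    (hσk : σ ≫ (P ↘ Spec (CommRingCat.of k)) = X ↘ Spec (CommRingCat.of k))
    (hb : BlowUp.IsBlowUp σ (ptI hx)) (hne : ptI hx ≠ ⊥) {U : P.affineOpens} (hxU : x ∈ U.1)
    (f : Fin 2 → Γ(P, U.1)) (hI : (ptI hx).ideal U = Groth.L11.BlowSmooth.sI f)
    {L : P.Modules} (hL : PicF.IsInvertible L) (p : ℕ) :
    h k p ((Scheme.Modules.pullback σ).obj L) = h k p L := by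
  haveI := Groth.L21.Extend.isQCoh_of_isInvertible hL
  haveI := Groth.L16.AffineBC.isQCoh_pullback σ L
  haveI := Groth.L02.Canon.isIso_unit_of_isInvertible σ (bijective_app hP hb hne) L hL
  rw [h_push k hσk hb hxU f hI _ (gg_restrict_pullback σ U L) p]
  exact (Groth.L21.RR.h_congr k (asIso ((Scheme.Modules.pullbackPushforwardAdjunction σ).unit.app L)) p).symm

end Groth.L13.PointBlow
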