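import Groth.Agent.L13.PointBlow.Base
import Groth.Agent.L13.PointBlow.Twist
import Groth.Agent.L03.BlowPt.Rules
import Groth.Agent.L12.VBLift.Small
import Groth.Agent.L21.RR.ProjLineRecog
import Groth.Agent.L21.P1.Coh
import Groth.Agent.L21.P1.PushCoh
import Groth.Agent.L16.ProjSpace.AmpleIff
import Groth.Agent.L07.DiffOpSheaf

/-!
# The exceptional curve of a point blow-up over an algebraically closed field
-/

set_option autoImplicit false
set_option linter.style.haveILetI false
set_option backward.isDefEq.respectTransparency false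

universe u

open CategoryTheory CategoryTheory.Limits AlgebraicGeometry TopologicalSpace Opposite
open Groth.L21.RR (h h_congr)
open Groth.L03.BlowPt (ptI exc eι eL excOver)
open Groth.L00.Tensor (tensorIso tensorAssoc tensorComm tensorUnitLeft tensorUnitRight)

noncomputable section

namespace Groth.L13.PointBlow

theorem gg_closed {E T : Scheme.{u}} (i : E ⟶ T) [IsClosedImmersion i] :
    Curv2.IsGloballyGenerated ((Scheme.Modules.pushforward i).obj (Coh.structureModule E)) :=
  haveI := Groth.L12.VBLift.epi_unitToPush i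
  gg_of_epi (ClSub.unitToPush i) (gg_structure T)

theorem h_pullback_iso {k : Type u} [Field k] {A B : Scheme.{u}} [A.Over (Spec (CommRingCat.of k))]
    [B.Over (Spec (CommRingCat.of k))] [B.IsSeparated] (e : A ⟶ B) [IsIso e]
    (hek : e ≫ (B ↘ Spec (CommRingCat.of k)) = A ↘ Spec (CommRingCat.of k)) (M : B.Modules) [Coh.IsQCoh M] (p : ℕ) :
    h k p ((Scheme.Modules.pullback e).obj M) = h k p M := by
  haveI := Groth.L16.AffineBC.isQCoh_pullback e M
  haveI := Groth.L07.DiffOpSheaf.isIso_unit_of_isIso e M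
  rw [← Groth.L21.P1.h_push_affine k e hek _ p]
  exact (h_congr k (asIso ((Scheme.Modules.pullbackPushforwardAdjunction e).unit.app M)) p).symm

variable {X P : Scheme.{u}} {x : P} {hx : IsClosed ({x} : Set P)} {σ : X ⟶ P}

/-- The exceptional curve has no first cohomology. -/
theorem subsingleton_H1_exc [X.IsSeparated] (hb : BlowUp.IsBlowUp σ (ptI hx)) {U : P.affineOpens} (hxU : x ∈ U.1)
    (f : Fin 2 → Γ(P, U.1)) (hI : (ptI hx).ideal U = Groth.L11.BlowSmooth.sI f) :
    Subsingleton (Coh.HH (exc hx σ).subscheme (Coh.structureModule (exc hx σ).subscheme) 1) := by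
  have hr : Set.range (eι hx σ) ⊆ Set.range (preι σ U) := by
    rintro _ ⟨z, rfl⟩
    show eι hx σ z ∈ (preι σ U).opensRange
    rw [opensRange_preι]
    show σ (eι hx σ z) ∈ U.1
    rw [Groth.L03.BlowPt.eι_apply z]
    exact hxU
  let i : (exc hx σ).subscheme ⟶ pre σ U := IsOpenImmersion.lift (preι σ U) (eι hx σ) hr
  have hi : i ≫ preι σ U = eι hx σ := IsOpenImmersion.lift_fac _ _ _
  haveI : IsClosedImmersion (i ≫ preι σ U) := by rw [hi]; infer_instance
  haveI : IsClosedImmersion i := IsClosedImmersion.of_comp i (preι σ U)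
  haveI : (pre σ U).IsSeparated := by
    constructor
    rw [← terminal.comp_from (preι σ U)]
    haveI := ‹X.IsSeparated›.isSeparated_terminal_from
    infer_instance
  haveI : Coh.IsQCoh ((Scheme.Modules.pushforward i).obj (Coh.structureModule (exc hx σ).subscheme)) := by
    haveI := Groth.L19.Conormal.isQCoh_structureModule (exc hx σ).subscheme
    exact Groth.L16.QcqsPush.isQCoh_push _ i
  haveI hT := subsingleton_HH_pre hb f hI _ (gg_closed i) 0
  let V : (pre σ U).affineOpens → (pre σ U).Opens := fun W => W.1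
  have hV : ∀ (n : ℕ) (a : Fin (n + 1) → (pre σ U).affineOpens), IsAffineOpen (⨅ j, V (a j)) :=
    fun n a => IsAffineOpen.iInf fun j => (a j).2
  haveI := Groth.L19.Conormal.isQCoh_structureModule (exc hx σ).subscheme
  haveI : Coh.IsQCoh ((Coh.push i).obj (Coh.structureModule (exc hx σ).subscheme)) :=
    Groth.L16.QcqsPush.isQCoh_push _ i
  obtain ⟨e, -⟩ := Groth.L16.PushCompare.exists_HH_push i (Coh.structureModule (exc hx σ).subscheme) V
    (iSup_affineOpens_eq_top _)
    (fun n a q => subsingleton_of_forall_eq 0 (Groth.L17.hu_affine_eq_zero _ ((hV n a).preimage i) q))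
    (fun n a q => subsingleton_of_forall_eq 0 (Groth.L17.hu_affine_eq_zero _ (hV n a) q)) 1
  exact @Equiv.subsingleton _ _ e.toEquiv hT

variable (k : Type u) [Field k] [IsAlgClosed k]
  [X.Over (Spec (CommRingCat.of k))] [IsProper (X ↘ Spec (CommRingCat.of k))]
  [P.Over (Spec (CommRingCat.of k))] [IsProper (P ↘ Spec (CommRingCat.of k))]

/-- The exceptional curve is a projective line on which the ideal restricts to `O(1)`. -/
theorem exists_iso_exc [X.IsSeparated]
    (hσk : σ ≫ (P ↘ Spec (CommRingCat.of k)) = X ↘ Spec (CommRingCat.of k))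
    (hb : BlowUp.IsBlowUp σ (ptI hx)) (hreg : IsRegularLocalRing (P.presheaf.stalk x))
    (hd : ringKrullDim (P.presheaf.stalk x) = (2 : ℕ)) :
    letI := excOver k hx σ
    ∃ e : (exc hx σ).subscheme ≅ CohB1.ProjSpace 1 k,
      e.hom ≫ CohB1.ProjSpace.toSpec 1 k = (exc hx σ).subscheme ↘ Spec (CommRingCat.of k) ∧
      Nonempty ((Scheme.Modules.pullback e.hom).obj (Groth.L18.PUP.O1 1 k) ≅ eL hx σ) := by
  letI := excOver k hx σ
  haveI := Groth.L21.RR.isNoetherian_of_proper (X := P) k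
  obtain ⟨D⟩ := Groth.L03.BlowPt.exists_echart hb hreg hd
  haveI := D.isIntegral
  haveI : IsProper ((exc hx σ).subscheme ↘ Spec (CommRingCat.of k)) :=
    inferInstanceAs (IsProper (eι hx σ ≫ (X ↘ Spec (CommRingCat.of k))))
  have hE := Groth.L03.BlowPt.isInvertible_exc hb
  refine Groth.L21.RR.exists_iso_projLine k D.dim_eq (subsingleton_H1_exc hb D.mem D.f D.ideal_eq)
    (Groth.L18.Ample.isInvertible_pullback (eι hx σ) hE) ?_
  rw [D.deg_eL k hσk hE, Groth.L03.BlowPt.ptDeg_eq_one]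

/-- Cohomology of the line bundles `O_E(b)` and `O_E(-b)`. -/
theorem h_exc [X.IsSeparated]
    (hσk : σ ≫ (P ↘ Spec (CommRingCat.of k)) = X ↘ Spec (CommRingCat.of k))
    (hb : BlowUp.IsBlowUp σ (ptI hx)) (hreg : IsRegularLocalRing (P.presheaf.stalk x))
    (hd : ringKrullDim (P.presheaf.stalk x) = (2 : ℕ)) {L : X.Modules}
    (hL : ClSub.IsInverseOf L (ClSub.idealMod (exc hx σ))) (b : ℕ) :
    letI := excOver k hx σ
    (h k 0 (CohB1.tensorPow (eL hx σ) b) = b + 1 ∧ h k 1 (CohB1.tensorPow (eL hx σ) b) = 0) ∧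
      (h k 0 (CohB1.tensorPow ((Scheme.Modules.pullback (eι hx σ)).obj L) (b + 1)) = 0 ∧
        h k 1 (CohB1.tensorPow ((Scheme.Modules.pullback (eι hx σ)).obj L) (b + 1)) = b) := by
  letI := excOver k hx σ
  obtain ⟨e, hek, ⟨i⟩⟩ := exists_iso_exc k hσk hb hreg hd
  have hcov : ∀ z : Proj (CohB1.polyGrading 1 k), ∃ f : CohB1.polyGrading 1 k 1,
      z ∈ Proj.basicOpen (CohB1.polyGrading 1 k) f.1 := fun z => by
    obtain ⟨j, hj⟩ := Groth.L16.ProjSpace.exists_mem_basicOpen_X 1 k z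
    exact ⟨⟨_, Groth.L18.PS.X_mem 1 j⟩, hj⟩
  have hO : ∀ (d : ℤ) (m : ℕ) (p : ℕ) (E : (exc hx σ).subscheme.Modules),
      ((Scheme.Modules.pullback e.hom).obj (Groth.L21.P1.O k d) ≅ E) →
        h k p (CohB1.tensorPow E m) = h k p (Groth.L21.P1.O k (m * d)) := by
    intro d m p E j
    obtain ⟨t⟩ := Groth.L16.ProjTwist.nonempty_tensorPow_twist_iso (CohB1.polyGrading 1 k) d hcov m
    haveI := (Groth.L21.P1.isCoh_O k (m * d)).1
    rw [← h_pullback_iso (B := Groth.L18.PUP.P 1 k) e.hom hek (Groth.L21.P1.O k (m * d)) p]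
    exact h_congr k ((Groth.L00.Tensor.tensorPowIso j.symm m) ≪≫ (Groth.L18.Ample.pullPow e.hom _ m).symm ≪≫
      (Scheme.Modules.pullback e.hom).mapIso t) p
  have jL : Nonempty ((Scheme.Modules.pullback e.hom).obj (Groth.L21.P1.O k (-1)) ≅
      (Scheme.Modules.pullback (eι hx σ)).obj L) := by
    obtain ⟨t⟩ := Groth.L16.ProjTwist.nonempty_tensor_twist_iso_one (CohB1.polyGrading 1 k) hcov (-1) 1
    obtain ⟨t0⟩ := Groth.L16.ProjTwist.nonempty_twist_zero_iso (CohB1.polyGrading 1 k)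
    refine inverse_unique (B := eL hx σ) ?_ ?_
    · exact tensorIso (Iso.refl _) i.symm ≪≫ Groth.L29.DC.PullTensor.pullTensor e.hom _ _ ≪≫
        (Scheme.Modules.pullback e.hom).mapIso (t ≪≫ eqToIso (by norm_num) ≪≫ t0) ≪≫
        Groth.L29.LocFree.pullbackUnitIso e.hom
    · exact Groth.L29.DC.PullTensor.pullTensor (eι hx σ) _ _ ≪≫
        (Scheme.Modules.pullback (eι hx σ)).mapIso hL.some ≪≫ Groth.L29.LocFree.pullbackUnitIso (eι hx σ)
  refine ⟨⟨?_, ?_⟩, ⟨?_, ?_⟩⟩
  · rw [hO 1 b 0 _ i, (Groth.L21.P1.h_O k _).1]; omega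
  · rw [hO 1 b 1 _ i, (Groth.L21.P1.h_O k _).2]; omega
  · rw [hO (-1) (b + 1) 0 _ jL.some, (Groth.L21.P1.h_O k _).1]; omega
  · rw [hO (-1) (b + 1) 1 _ jL.some, (Groth.L21.P1.h_O k _).2]; omega

end Groth.L13.PointBlow
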