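import Groth.Agent.L13.BlowP1.Exceptional
import Groth.Agent.L03.BlowPt.Pair
import Mathlib.RingTheory.Nullstellensatz

/-!
# Two linear forms cutting out a point of the plane
-/

set_option autoImplicit false
set_option linter.style.haveILetI false
set_option backward.isDefEq.respectTransparency false

universe u

open CategoryTheory CategoryTheory.Limits AlgebraicGeometry TopologicalSpace Opposite
open Groth.L18.PUP (P pr D T cc cc_smul T_frame)
open Groth.L18.Frame (IsFrame rs ro rs_self rs_rs rs_smul ro_ro)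
open Groth.L13.BlowP1 (S_chartScalar)
open Groth.L03.BlowPt (ptI)

noncomputable section

namespace Groth.L13.PointBlow

/-- The maximal ideals of a finitely generated algebra over an algebraically closed field given by coordinates. -/
theorem exists_point {k : Type u} [Field k] [IsAlgClosed k] {σ : Type} [Finite σ] {A : Type u} [CommRing A]
    (φ : MvPolynomial σ k →+* A) (hφ : Function.Surjective φ) (M : Ideal A) [M.IsMaximal] :
    ∃ a : σ → k, M = Ideal.span (Set.range fun l => φ (MvPolynomial.X l) - φ (MvPolynomial.C (a l))) := by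
  haveI := Ideal.comap_isMaximal_of_surjective φ hφ (K := M)
  obtain ⟨a, ha⟩ := MvPolynomial.isMaximal_iff_eq_vanishingIdeal_singleton.1 ‹(M.comap φ).IsMaximal›
  refine ⟨a, ?_⟩
  have hspan : M.comap φ = Ideal.span (Set.range fun l => MvPolynomial.X l - MvPolynomial.C (a l)) := by
    rw [ha]
    refine le_antisymm (fun q hq => ?_) (Ideal.span_le.2 ?_)
    · rw [MvPolynomial.mem_vanishingIdeal_singleton_iff] at hq
      let J : Ideal (MvPolynomial σ k) := Ideal.span (Set.range fun l => MvPolynomial.X l - MvPolynomial.C (a l))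
      have h : Ideal.Quotient.mk J = ((Ideal.Quotient.mk J).comp MvPolynomial.C).comp
          (MvPolynomial.eval a) := by
        refine MvPolynomial.ringHom_ext (fun r => by simp) fun l => ?_
        simp only [RingHom.comp_apply, MvPolynomial.eval_X, Ideal.Quotient.eq]
        exact Ideal.subset_span ⟨l, rfl⟩
      refine Ideal.Quotient.eq_zero_iff_mem.1 ((RingHom.congr_fun h q).trans ?_)
      have hq' : MvPolynomial.eval a q = 0 := by simpa using hq
      rw [RingHom.comp_apply, hq', map_zero]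
    · rintro _ ⟨l, rfl⟩
      rw [SetLike.mem_coe, MvPolynomial.mem_vanishingIdeal_singleton_iff]
      simp
  rw [← Ideal.map_comap_of_surjective φ hφ M, hspan, Ideal.map_span, ← Set.range_comp]
  exact congrArg Ideal.span (congrArg Set.range (funext fun l => map_sub φ _ _))

variable {k : Type u} [Field k] [IsAlgClosed k]

/-- A closed point of the plane is cut out by two linear forms. -/
theorem exists_forms (p : P 2 k) (hp : IsClosed ({p} : Set (P 2 k))) :
    ∃ (U : (P 2 k).affineOpens) (e : Γ(Groth.L18.PUP.O1 2 k, U.1)) (t : Fin 2 → Γ(Groth.L18.PUP.O1 2 k, ⊤))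
      (f : Fin 2 → Γ(P 2 k, U.1)), p ∈ U.1 ∧ (ptI hp).ideal U = Groth.L11.BlowSmooth.sI f ∧
        IsFrame (Groth.L18.PUP.O1 2 k) U.1 e ∧ (∀ i, rs _ le_top (t i) = f i • e) ∧
        ∀ z : P 2 k, z ≠ p → ∃ (i : Fin 2) (W : (P 2 k).Opens), z ∈ W ∧ p ∉ W ∧
          IsFrame (Groth.L18.PUP.O1 2 k) W (rs _ le_top (t i)) := by
  classical
  obtain ⟨j, hj⟩ := Groth.L16.ProjSpace.exists_mem_basicOpen_X 2 k p
  have hD : IsAffineOpen (D (R := k) j) := Proj.isAffineOpen_basicOpen _ _ (Groth.L18.PS.X_mem 2 j) one_pos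
  let U : (P 2 k).affineOpens := ⟨D j, hD⟩
  let c : k →+* Γ(P 2 k, D j) :=
    ((P 2 k).presheaf.map (homOfLE (le_top : D j ≤ ⊤)).op).hom.comp (ProjUP.toGlobal (pr 2 k))
  let φ : MvPolynomial (Fin 3) k →+* Γ(P 2 k, D j) := MvPolynomial.eval₂Hom c (cc j)
  have hφX : ∀ l, φ (MvPolynomial.X l) = cc j l := fun l => MvPolynomial.eval₂Hom_X' _ _ l
  have hφC : ∀ r, φ (MvPolynomial.C r) = c r := fun r => MvPolynomial.eval₂Hom_C _ _ r
  have hφ : Function.Surjective φ := by
    intro z
    haveI : IsIso (Proj.awayToSection (CohB1.polyGrading 2 k) (MvPolynomial.X j)) :=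
      (Proj.basicOpenIsoAway (CohB1.polyGrading 2 k) _ (Groth.L18.PS.X_mem 2 j) one_pos).isIso_hom
    obtain ⟨w, rfl⟩ := ((ConcreteCategory.isIso_iff_bijective
      (Proj.awayToSection (CohB1.polyGrading 2 k) (MvPolynomial.X j))).1 inferInstance).2 z
    obtain ⟨q, hq⟩ := Groth.L18.PS.exists_eq_eval_coord j w
    refine ⟨q, ?_⟩
    rw [hq]
    refine Eq.trans ?_ (MvPolynomial.map_eval₂Hom (Groth.L18.PS.chartScalar 2 k j) (Groth.L18.PS.coord j)
      (Proj.awayToSection (CohB1.polyGrading 2 k) (MvPolynomial.X j)).hom q).symm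
    refine RingHom.congr_fun (MvPolynomial.ringHom_ext (fun r => ?_) fun l => ?_) q
    · rw [hφC, MvPolynomial.eval₂Hom_C]
      exact (S_chartScalar j r).symm
    · rw [hφX, MvPolynomial.eval₂Hom_X']
      rfl
  haveI hmax : ((ptI hp).ideal U).IsMaximal := Groth.L03.BlowPt.isMaximal_ptI hp U hj
  obtain ⟨a, ha⟩ := exists_point φ hφ ((ptI hp).ideal U)
  simp only [hφX, hφC] at ha
  have hcc : cc (R := k) j j = 1 := (T_frame j).inj le_rfl (by rw [rs_self, one_smul]; exact cc_smul j j)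
  have haj : a j = 1 := by
    by_contra hne
    have hmem : cc j j - c (a j) ∈ (ptI hp).ideal U := ha ▸ Ideal.subset_span ⟨j, rfl⟩
    rw [hcc, ← map_one c, ← map_sub] at hmem
    exact hmax.ne_top (Ideal.eq_top_of_isUnit_mem _ hmem ((sub_ne_zero.2 (Ne.symm hne)).isUnit.map c))
  let t : Fin 2 → Γ(Groth.L18.PUP.O1 2 k, ⊤) := fun i =>
    T (j.succAbove i) - (show Γ(P 2 k, ⊤) from ProjUP.toGlobal (pr 2 k) (a (j.succAbove i))) • T j
  let f : Fin 2 → Γ(P 2 k, D j) := fun i => cc j (j.succAbove i) - c (a (j.succAbove i))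
  have hsI : (ptI hp).ideal U = Groth.L11.BlowSmooth.sI f := by
    rw [ha]
    refine le_antisymm (Ideal.span_le.2 ?_) (Ideal.span_mono ?_)
    · rintro _ ⟨l, rfl⟩
      rcases eq_or_ne l j with rfl | hl
      · simp only [hcc, haj, map_one, sub_self]
        exact zero_mem _
      · obtain ⟨i, rfl⟩ := Fin.exists_succAbove_eq hl
        exact Ideal.subset_span ⟨i, rfl⟩
    · rintro _ ⟨i, rfl⟩
      exact ⟨_, rfl⟩
  have ht : ∀ i, rs (Groth.L18.PUP.O1 2 k) (le_top : D j ≤ ⊤) (t i) = f i • rs _ le_top (T j) := by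
    intro i
    show _ = (cc j (j.succAbove i) - c (a (j.succAbove i))) • _
    rw [sub_smul, cc_smul]
    show rs _ _ (T (j.succAbove i) - _ • T j) = _
    exact (map_sub _ _ _).trans (congrArg (_ - ·) (rs_smul _ _ _ _))
  refine ⟨U, rs _ le_top (T j), t, f, hj, hsI, T_frame j, ht, fun z hz => ?_⟩
  by_cases hzj : z ∈ D j
  · obtain ⟨i, hi⟩ : ∃ i, z ∈ (P 2 k).basicOpen (f i) := by
      by_contra h
      push Not at h
      refine hz ?_
      have hle : (ptI hp).ideal U ≤ (hD.primeIdealOf ⟨z, hzj⟩).asIdeal := by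
        rw [hsI, Groth.L11.BlowSmooth.sI, Ideal.span_le]
        rintro _ ⟨i, rfl⟩
        by_contra hi
        refine h i ?_
        show z ∈ (P 2 k).basicOpen (f i)
        have : hD.primeIdealOf ⟨z, hzj⟩ ∈ hD.fromSpec ⁻¹ᵁ (P 2 k).basicOpen (f i) := by
          rw [hD.fromSpec_preimage_basicOpen]; exact hi
        exact Eq.subst (motive := fun y => y ∈ (P 2 k).basicOpen (f i)) (hD.fromSpec_primeIdealOf ⟨z, hzj⟩) this
      have heq := hmax.eq_of_le (hD.primeIdealOf ⟨z, hzj⟩).2.ne_top hle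
      rw [Groth.L03.BlowPt.ideal_ptI hp U hj] at heq
      have := congrArg (fun q => hD.fromSpec q) (PrimeSpectrum.ext heq)
      simpa [hD.fromSpec_primeIdealOf] using this.symm
    refine ⟨i, (P 2 k).basicOpen (f i), hi, ?_, ?_⟩
    · intro hpb
      have h1 : hD.primeIdealOf ⟨p, hj⟩ ∈ hD.fromSpec ⁻¹ᵁ (P 2 k).basicOpen (f i) := by
        exact Eq.subst (motive := fun y => y ∈ (P 2 k).basicOpen (f i)) (hD.fromSpec_primeIdealOf ⟨p, hj⟩).symm hpb
      rw [hD.fromSpec_preimage_basicOpen] at h1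
      refine h1 ?_
      rw [← Groth.L03.BlowPt.ideal_ptI hp U hj, hsI]
      exact Ideal.subset_span ⟨i, rfl⟩
    · have hu : IsUnit (ro ((P 2 k).basicOpen_le (f i)) (f i)) :=
        RingedSpace.isUnit_res_basicOpen (P 2 k).toRingedSpace (f i)
      rw [← rs_rs (Groth.L18.PUP.O1 2 k) (le_top : D j ≤ ⊤) ((P 2 k).basicOpen_le (f i)), ht, rs_smul]
      exact ((T_frame j).mono ((P 2 k).basicOpen_le (f i))).smul_unit hu
  · obtain ⟨l, hl⟩ := Groth.L16.ProjSpace.exists_mem_basicOpen_X 2 k z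
    have hlj : l ≠ j := fun h => hzj (h ▸ hl)
    obtain ⟨i, rfl⟩ := Fin.exists_succAbove_eq hlj
    let α : Γ(P 2 k, ⊤) := ProjUP.toGlobal (pr 2 k) (a (j.succAbove i))
    let u : Γ(P 2 k, D (j.succAbove i)) := 1 - ro le_top α * cc (j.succAbove i) j
    refine ⟨i, (P 2 k).basicOpen u ⊓ ⟨{p}ᶜ, hp.isOpen_compl⟩, ⟨?_, hz⟩, fun h => h.2 rfl, ?_⟩
    · rw [SetLike.mem_coe, Scheme.mem_basicOpen _ _ z hl, map_sub, map_one, map_mul]
      have hnu : ¬ IsUnit ((P 2 k).presheaf.germ _ z hl (cc (j.succAbove i) j)) := fun h =>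
        hzj (Groth.L18.PUP.basicOpen_cc (j.succAbove i) j ((Scheme.mem_basicOpen _ _ z hl).2 h))
      exact IsLocalRing.isUnit_one_sub_self_of_mem_nonunits _
        (fun h => hnu (isUnit_of_mul_isUnit_right h))
    · have hle : (P 2 k).basicOpen u ⊓ ⟨{p}ᶜ, hp.isOpen_compl⟩ ≤ D (j.succAbove i) :=
        inf_le_left.trans ((P 2 k).basicOpen_le u)
      have ht' : rs (Groth.L18.PUP.O1 2 k) (le_top : D (j.succAbove i) ≤ ⊤) (t i) =
          u • rs _ le_top (T (j.succAbove i)) := by
        show rs _ _ (T (j.succAbove i) - α • T j) = (1 - ro le_top α * cc (j.succAbove i) j) • _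
        rw [sub_smul, one_smul, mul_smul, cc_smul, ← rs_smul]
        exact map_sub _ _ _
      rw [← rs_rs (Groth.L18.PUP.O1 2 k) (le_top : D (j.succAbove i) ≤ ⊤) hle, ht', rs_smul]
      refine ((T_frame _).mono hle).smul_unit ?_
      rw [show ro hle u = ro (inf_le_left : _ ≤ (P 2 k).basicOpen u) (ro ((P 2 k).basicOpen_le u) u) from
        (ro_ro _ _ _).symm]
      exact (RingedSpace.isUnit_res_basicOpen (P 2 k).toRingedSpace u).map
        ((P 2 k).presheaf.map (homOfLE _).op).hom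

end Groth.L13.PointBlow
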