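import Groth.Agent.L13.PointBlow.Exceptional
import Groth.Agent.L13.PointBlow.Forms
import Groth.Agent.L13.PointBlow.Lift
import Groth.Agent.L03.RefRegSch
import Groth.Agent.L16.ProjSpace.Dim
import Groth.Agent.L16.ProjSpace.TopCoh
import Groth.Agent.L03.SurfAdj.Tools
import Groth.Agent.L17.ProjFormula

/-!
# The projective plane blown up in a point: pulled back twists and the ideal sequence
-/

set_option autoImplicit false
set_option linter.style.haveILetI false
set_option backward.isDefEq.respectTransparency false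
set_option linter.unusedSectionVars false

universe u

open CategoryTheory CategoryTheory.Limits AlgebraicGeometry TopologicalSpace Opposite
open Groth.L21.RR (h h_congr)
open Groth.L03.BlowPt (ptI exc eι eL excOver)
open Groth.L00.Tensor (tensorIso tensorAssoc tensorComm tensorUnitLeft tensorUnitRight)

noncomputable section

namespace Groth.L13.PointBlow

variable (k : Type u) [Field k]

/-- The plane. -/
abbrev P2 : Scheme.{u} := CohB1.ProjSpace 2 k

instance overP2 : (P2 k).Over (Spec (CommRingCat.of k)) := ⟨CohB1.ProjSpace.toSpec 2 k⟩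

instance isProper_P2 : IsProper (P2 k ↘ Spec (CommRingCat.of k)) :=
  inferInstanceAs (IsProper (CohB1.ProjSpace.toSpec 2 k))

instance smooth_P2 : Smooth (P2 k ↘ Spec (CommRingCat.of k)) :=
  inferInstanceAs (Smooth (CohB1.ProjSpace.toSpec 2 k))

instance isIntegral_P2 : IsIntegral (P2 k) := Groth.L16.ProjSpace.isIntegral (n := 2) (R := k)

theorem cover_P2 : ∀ z : Proj (CohB1.polyGrading 2 k), ∃ f : CohB1.polyGrading 2 k 1,
    z ∈ Proj.basicOpen (CohB1.polyGrading 2 k) f.1 := fun z => by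
  obtain ⟨j, hj⟩ := Groth.L16.ProjSpace.exists_mem_basicOpen_X 2 k z
  exact ⟨⟨_, Groth.L18.PS.X_mem 2 j⟩, hj⟩

/-- `O(d)`. -/
abbrev O2 (d : ℤ) : (P2 k).Modules := Twist.twistProjSpace 2 k d

theorem isInvertible_O2 (d : ℤ) : PicF.IsInvertible (O2 k d) :=
  Groth.L16.ProjTwist.isInvertible_twistProjSpace 2 k d

theorem h_O2 (d : ℤ) :
    h k 0 (O2 k d) = (d + 2).toNat.choose 2 ∧ h k 1 (O2 k d) = 0 ∧
      h k 2 (O2 k d) = (-d - 1).toNat.choose 2 ∧ ∀ n, 3 ≤ n → h k n (O2 k d) = 0 := by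
  have hfin : ∀ m : ℕ,
      Module.finrank k ↥(MvPolynomial.homogeneousSubmodule (Fin (2 + 1)) k m) = (m + 2).choose 2 := fun m =>
    (Groth.L03.PlanePoints.finrank_homogeneous (F := k) 2 m).2
  have h0 : ∀ q, ¬ (q = 0 ∧ 0 ≤ d) → ¬ (q = 2 ∧ d ≤ -3) → h k q (O2 k d) = 0 := fun q h₀ h₂ => by
    haveI := Groth.L16.ProjSpace.subsingleton_HH_twist 2 k d q h₀ (by omega)
    exact Module.finrank_zero_of_subsingleton
  refine ⟨?_, h0 1 (by omega) (by omega), ?_, fun n hn => h0 n (by omega) (by omega)⟩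
  · rcases le_or_gt 0 d with hd | hd
    · obtain ⟨m, rfl⟩ := Int.eq_ofNat_of_zero_le hd
      obtain ⟨e⟩ := Groth.L16.ProjSpace.nonempty_H0_twist_linearEquiv 2 k m
      refine e.finrank_eq.trans ((hfin m).trans ?_)
      congr 1
    · rw [h0 0 (by omega) (by omega)]
      exact (Nat.choose_eq_zero_of_lt (by omega)).symm
  · rcases le_or_gt d (-3) with hd | hd
    · obtain ⟨m, hm⟩ := Int.eq_ofNat_of_zero_le (show 0 ≤ -d - 3 by omega)
      obtain rfl : d = -(((2 : ℕ) : ℤ) + 1 + m) := by omega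
      obtain ⟨e⟩ := Groth.L16.ProjSpace.nonempty_HH_top_linearEquiv 2 m k
      refine e.finrank_eq.trans ((hfin m).trans ?_)
      congr 1
      omega
    · rw [h0 2 (by omega) (by omega)]
      exact (Nat.choose_eq_zero_of_lt (by omega)).symm

variable {k} [IsAlgClosed k] {X : Scheme.{u}} [X.Over (Spec (CommRingCat.of k))]
  {p : P2 k} {hp : IsClosed ({p} : Set (P2 k))} {σ : X ⟶ P2 k}

/-- The hypotheses: a blow-up of the plane at a closed point, over the ground field. -/
structure Blown (hp : IsClosed ({p} : Set (P2 k))) (σ : X ⟶ P2 k) : Prop where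
  comm : σ ≫ CohB1.ProjSpace.toSpec 2 k = X ↘ Spec (CommRingCat.of k)
  blowUp : BlowUp.IsBlowUp σ (ptI hp)

variable (B : Blown hp σ)

include B

theorem isProper_σ : IsProper σ := Groth.L03.BlowPt.isProper_of_isBlowUp k B.blowUp

theorem isProper_X : IsProper (X ↘ Spec (CommRingCat.of k)) := by
  haveI := isProper_σ B
  rw [← B.comm]
  infer_instance

theorem isSeparated_X : X.IsSeparated := by
  haveI := isProper_X B
  exact ⟨by rw [← terminal.comp_from (X ↘ Spec (CommRingCat.of k))]; infer_instance⟩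

omit B in
theorem regular (y : P2 k) : IsRegularLocalRing ((P2 k).presheaf.stalk y) :=
  Groth.L03.SurfAdj.reg_of_smooth k y

omit B in
theorem dim_P2 : topologicalKrullDim (P2 k) = (2 : ℕ) := Groth.L16.ProjSpace.topologicalKrullDim_eq_of_field (n := 2) k

theorem dim_p : ringKrullDim ((P2 k).presheaf.stalk p) = (2 : ℕ) :=
  Groth.L03.BlowPt.ringKrullDim_stalk_closed k dim_P2 hp

theorem isInvertible_E : PicF.IsInvertible (ClSub.idealMod (exc hp σ)) :=
  Groth.L03.BlowPt.isInvertible_exc B.blowUp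

omit B in
variable (σ) in
/-- `σ^*O(d)`. -/
abbrev T (d : ℤ) : X.Modules := (Scheme.Modules.pullback σ).obj (O2 k d)

omit B in
theorem isInvertible_T (d : ℤ) : PicF.IsInvertible (T σ d) :=
  Groth.L18.Ample.isInvertible_pullback σ (isInvertible_O2 k d)

omit B in
theorem nonempty_T_add (a b : ℤ) : Nonempty (CohB1.tensorMod (T σ a) (T σ b) ≅ T σ (a + b)) := by
  obtain ⟨e⟩ := Groth.L16.ProjTwist.nonempty_tensor_twist_iso_one (CohB1.polyGrading 2 k) (cover_P2 k) a b
  exact ⟨Groth.L29.DC.PullTensor.pullTensor σ _ _ ≪≫ (Scheme.Modules.pullback σ).mapIso e⟩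

theorem h_T (d : ℤ) :
    h k 0 (T σ d) = (d + 2).toNat.choose 2 ∧ h k 1 (T σ d) = 0 ∧
      h k 2 (T σ d) = (-d - 1).toNat.choose 2 ∧ ∀ n, 3 ≤ n → h k n (T σ d) = 0 := by
  haveI := isProper_σ B
  haveI : (P2 k).IsSeparated := ⟨by rw [← terminal.comp_from (P2 k ↘ Spec (CommRingCat.of k))]; infer_instance⟩
  obtain ⟨U, f, hxU, -, hI⟩ :=
    haveI := Groth.L21.RR.isNoetherian_of_proper (X := P2 k) k
    Groth.L03.BlowPt.exists_pair hp (regular p) (dim_p B)
  have key : ∀ n, h k n (T σ d) = h k n (O2 k d) := fun n =>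
    h_pullback k (Groth.L03.RefRegSch.isNormalScheme regular) B.comm B.blowUp
      (Groth.L03.BlowPt.ptI_ne_bot (hx := hp) dim_P2) hxU f hI (isInvertible_O2 k d) n
  simp only [key]
  exact h_O2 k d

/-- The kernel sequence of `A ⟶ A|_E`. -/
theorem exists_seq {A : X.Modules} (hA : PicF.IsInvertible A) :
    ∃ S : ShortComplex X.Modules, S.ShortExact ∧
      Nonempty (S.X₁ ≅ CohB1.tensorMod A (ClSub.idealMod (exc hp σ))) ∧ Nonempty (S.X₂ ≅ A) ∧
      Coh.IsCoh S.X₁ ∧ Coh.IsCoh S.X₂ ∧ Coh.IsCoh S.X₃ ∧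
      letI := excOver k hp σ
      ∀ n, h k n S.X₃ = h k n ((Scheme.Modules.pullback (eι hp σ)).obj A) := by
  haveI := isProper_X B
  haveI := isSeparated_X B
  haveI := Groth.L21.RR.isNoetherian_of_proper (X := X) k
  letI := excOver k hp σ
  let I := exc hp σ
  refine ⟨_, Groth.L03.Euler.shortExact_tensor hA (Groth.L21.RR.shortExact_idealSeq I),
    ⟨tensorComm _ _⟩, ⟨tensorUnitLeft A⟩, ?_, ?_, ?_, fun n => ?_⟩
  · exact Groth.L16.ProperFinite.isCoh_of_isInvertible (Groth.L18.GenLoc.isInvertible_tensor (isInvertible_E B) hA)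
  · exact Groth.L16.ProperFinite.isCoh_of_isInvertible
      (Groth.L18.GenLoc.isInvertible_tensor (Groth.L18.Ample.isInvertible_structureModule X) hA)
  · exact Groth.L03.Euler.isCoh_tensor hA (Groth.L21.RR.isCoh_quotMod I)
  · let i := eι hp σ
    have hF : FlatMod.IsFinLocFree A := Groth.L16.Existence.isFinLocFree_of_isInvertible hA
    let φ := (Groth.L17.ProjFormula.projIso i A hF).app (Coh.structureModule I.subscheme)
    have e : (((Groth.L21.RR.idealSeq I).map (Groth.L00.Tensor.tensorRightF A)).X₃) ≅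
        (Scheme.Modules.pushforward i).obj ((Scheme.Modules.pullback i).obj A) :=
      tensorComm (ClSub.quotMod I) A ≪≫ φ ≪≫ (Scheme.Modules.pushforward i).mapIso (tensorUnitRight _)
    rw [h_congr k e n]
    haveI := Groth.L21.Extend.isQCoh_of_isInvertible (Groth.L18.Ample.isInvertible_pullback i hA)
    exact Groth.L21.P1.h_push_affine k i rfl _ n

/-- Two generating sections of `I_E ⊗ σ^*O(1)`. -/
theorem exists_sections : ∃ s : Fin 2 → Γ(CohB1.tensorMod (ClSub.idealMod (exc hp σ)) (T σ 1), ⊤),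
    ∀ z : X, ∃ (i : Fin 2) (W : X.Opens), z ∈ W ∧
      Groth.L18.Frame.IsFrame _ W (Groth.L18.Frame.rs _ le_top (s i)) := by
  obtain ⟨U, e, t, f, hxU, hI, he, ht, hgen⟩ := exists_forms p hp
  exact exists_lift B.blowUp (isInvertible_O2 k 1) U e t f hxU hI he ht hgen

end Groth.L13.PointBlow
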