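import Groth.Agent.L13.PointBlow.Setup
import Groth.Agent.L08.Cube.Inverse

/-!
# Cohomology of all line bundles on the plane blown up in a point
-/

set_option autoImplicit false
set_option linter.style.haveILetI false
set_option linter.unusedSectionVars false
set_option backward.isDefEq.respectTransparency false

universe u

open CategoryTheory CategoryTheory.Limits AlgebraicGeometry TopologicalSpace Opposite
open Groth.L21.RR (h h_congr)
open Groth.L03.BlowPt (ptI exc eι eL excOver)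
open Groth.L16.CohLinear (hmap overLin)
open Groth.L00.Tensor (tensorIso tensorAssoc tensorComm tensorUnitLeft tensorUnitRight tensorPowIso)
open CohB1 (tensorMod tensorPow)

noncomputable section

namespace Groth.L13.PointBlow

section Les

variable {k : Type u} [Field k] {X : Scheme.{u}} [X.Over (Spec (CommRingCat.of k))]

theorem h_eq_zero_iff [IsProper (X ↘ Spec (CommRingCat.of k))] {M : X.Modules} (hM : Coh.IsCoh M) (n : ℕ) :
    h k n M = 0 ↔ Subsingleton (Coh.HH X M n) := by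
  haveI := Groth.L21.RR.finite_HH' k hM n
  exact Module.finrank_zero_iff

variable {S : ShortComplex X.Modules} (hS : S.ShortExact)

include hS in
theorem h_eq_left_zero (h3 : Subsingleton (Coh.HH X S.X₃ 0)) : h k 0 S.X₁ = h k 0 S.X₂ := by
  haveI := hS.mono_f
  refine (LinearEquiv.ofBijective (overLin k (hmap S.f 0))
    ⟨Groth.L21.RR.injective_hmap_zero S.f, fun y => ?_⟩).finrank_eq
  exact ((Groth.L16.CohLinear.exact_hmap_hmap hS 0) y).1 (Subsingleton.elim _ _)

include hS in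
theorem h_eq_left_succ (n : ℕ) (h3 : Subsingleton (Coh.HH X S.X₃ n))
    (h3' : Subsingleton (Coh.HH X S.X₃ (n + 1))) : h k (n + 1) S.X₁ = h k (n + 1) S.X₂ := by
  refine (LinearEquiv.ofBijective (overLin k (hmap S.f (n + 1))) ⟨?_, fun y => ?_⟩).finrank_eq
  · refine (injective_iff_map_eq_zero (overLin k (hmap S.f (n + 1)))).2 fun a ha => ?_
    obtain ⟨c, rfl⟩ := ((Groth.L16.CohLinear.exact_delta_hmap hS n) a).1 ha
    rw [Subsingleton.elim c 0, map_zero]
  · exact ((Groth.L16.CohLinear.exact_hmap_hmap hS (n + 1)) y).1 (Subsingleton.elim _ _)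

end Les

variable {k : Type u} [Field k] [IsAlgClosed k] {X : Scheme.{u}} [X.Over (Spec (CommRingCat.of k))]
  {p : P2 k} {hp : IsClosed ({p} : Set (P2 k))} {σ : X ⟶ P2 k} (B : Blown hp σ)
  {L : X.Modules} (hL : ClSub.IsInverseOf L (ClSub.idealMod (exc hp σ)))

variable (hp σ) in
/-- `dH - bE`. -/
abbrev Mneg (d : ℤ) (b : ℕ) : X.Modules := tensorMod (T σ d) (tensorPow (ClSub.idealMod (exc hp σ)) b)

variable (σ) in
/-- `dH + bE`. -/
abbrev Mpos (L : X.Modules) (d : ℤ) (b : ℕ) : X.Modules := tensorMod (T σ d) (tensorPow L b)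

/-- Middle four interchange. -/
def middleFour (A C D F : X.Modules) :
    tensorMod (tensorMod A C) (tensorMod D F) ≅ tensorMod (tensorMod A D) (tensorMod C F) :=
  tensorAssoc A C _ ≪≫ tensorIso (Iso.refl A)
      ((tensorAssoc C D F).symm ≪≫ tensorIso (tensorComm C D) (Iso.refl F) ≪≫ tensorAssoc D C F) ≪≫
    (tensorAssoc A D _).symm

include B

omit B in
theorem isInvertible_pow {M : X.Modules} (hM : PicF.IsInvertible M) : ∀ b : ℕ, PicF.IsInvertible (tensorPow M b)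
  | 0 => Groth.L18.Ample.isInvertible_structureModule X
  | b + 1 => Groth.L18.GenLoc.isInvertible_tensor (isInvertible_pow hM b) hM

theorem isInvertible_Mneg (d : ℤ) (b : ℕ) : PicF.IsInvertible (Mneg hp σ d b) :=
  Groth.L18.GenLoc.isInvertible_tensor (isInvertible_T d) (isInvertible_pow (isInvertible_E B) b)

theorem isCoh_of_invertible {M : X.Modules} (hM : PicF.IsInvertible M) : Coh.IsCoh M := by
  haveI := isProper_X B
  haveI := Groth.L21.RR.isNoetherian_of_proper (X := X) k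
  exact Groth.L16.ProperFinite.isCoh_of_isInvertible hM

/-- Restrictions to the exceptional curve. -/
theorem h_restrict_neg (d : ℤ) (b : ℕ) :
    letI := excOver k hp σ
    h k 0 ((Scheme.Modules.pullback (eι hp σ)).obj (Mneg hp σ d b)) = b + 1 ∧
      h k 1 ((Scheme.Modules.pullback (eι hp σ)).obj (Mneg hp σ d b)) = 0 := by
  letI := excOver k hp σ
  haveI := isProper_X B
  haveI := isSeparated_X B
  obtain ⟨L, -, ⟨i⟩⟩ := Groth.L08.Cube.exists_inverse (isInvertible_E B)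
  have hL : ClSub.IsInverseOf L (ClSub.idealMod (exc hp σ)) := ⟨tensorComm _ _ ≪≫ i⟩
  obtain ⟨e⟩ := Groth.L03.BlowPt.nonempty_pullback_trivial hp σ (isInvertible_O2 k d)
  have E : (Scheme.Modules.pullback (eι hp σ)).obj (Mneg hp σ d b) ≅ tensorPow (eL hp σ) b :=
    (Groth.L29.DC.PullTensor.pullTensor (eι hp σ) _ _).symm ≪≫
      tensorIso e (Groth.L18.Ample.pullPow (eι hp σ) _ b) ≪≫ tensorUnitLeft _
  rw [h_congr k E 0, h_congr k E 1]
  exact (h_exc k B.comm B.blowUp (regular p) (dim_p B) hL b).1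

include hL in
theorem isInvertible_Mpos (d : ℤ) (b : ℕ) : PicF.IsInvertible (Mpos σ L d b) :=
  Groth.L18.GenLoc.isInvertible_tensor (isInvertible_T d)
    (isInvertible_pow (isInvertible_of_isInverseOf (isInvertible_E B) hL) b)

include hL in
theorem h_restrict_pos (d : ℤ) (b : ℕ) :
    letI := excOver k hp σ
    h k 0 ((Scheme.Modules.pullback (eι hp σ)).obj (Mpos σ L d (b + 1))) = 0 ∧
      h k 1 ((Scheme.Modules.pullback (eι hp σ)).obj (Mpos σ L d (b + 1))) = b := by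
  letI := excOver k hp σ
  haveI := isProper_X B
  haveI := isSeparated_X B
  obtain ⟨e⟩ := Groth.L03.BlowPt.nonempty_pullback_trivial hp σ (isInvertible_O2 k d)
  have E : (Scheme.Modules.pullback (eι hp σ)).obj (Mpos σ L d (b + 1)) ≅
      tensorPow ((Scheme.Modules.pullback (eι hp σ)).obj L) (b + 1) :=
    (Groth.L29.DC.PullTensor.pullTensor (eι hp σ) _ _).symm ≪≫
      tensorIso e (Groth.L18.Ample.pullPow (eι hp σ) _ (b + 1)) ≪≫ tensorUnitLeft _
  rw [h_congr k E 0, h_congr k E 1]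
  exact (h_exc k B.comm B.blowUp (regular p) (dim_p B) hL b).2

/-- One step of the ideal sequence. -/
theorem seq_step {A A' : X.Modules} (hA : PicF.IsInvertible A)
    (e : tensorMod A (ClSub.idealMod (exc hp σ)) ≅ A') {q0 q1 : ℕ}
    (hq : letI := excOver k hp σ
      h k 0 ((Scheme.Modules.pullback (eι hp σ)).obj A) = q0 ∧
        h k 1 ((Scheme.Modules.pullback (eι hp σ)).obj A) = q1) :
    Curv2.euler k X A = Curv2.euler k X A' + ((q0 : ℤ) - q1) ∧
      ((∀ n, 3 ≤ n → h k n A = 0) ↔ (∀ n, 3 ≤ n → h k n A' = 0)) ∧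
      (q0 = 0 → h k 0 A' = h k 0 A ∧ (h k 1 A = 0 → h k 1 A' = 0)) ∧
      (q1 = 0 → h k 2 A' = h k 2 A ∧ (h k 1 A' = 0 → h k 1 A = 0)) ∧
      (h k 0 A = 0 → h k 0 A' = 0) ∧ (h k 2 A' = 0 → h k 2 A = 0) := by
  letI := excOver k hp σ
  haveI := isProper_X B
  haveI := Groth.L21.RR.isNoetherian_of_proper (X := X) k
  haveI : IsProper ((exc hp σ).subscheme ↘ Spec (CommRingCat.of k)) :=
    inferInstanceAs (IsProper (eι hp σ ≫ (X ↘ Spec (CommRingCat.of k))))
  haveI := Groth.L21.RR.isNoetherian_of_proper (X := (exc hp σ).subscheme) k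
  obtain ⟨S, hS, ⟨i1⟩, ⟨i2⟩, c1, c2, c3, hQ⟩ := exists_seq B hA
  haveI : IsIntegral (P2 k) := inferInstance
  obtain ⟨D⟩ :=
    haveI := Groth.L21.RR.isNoetherian_of_proper (X := P2 k) k
    Groth.L03.BlowPt.exists_echart B.blowUp (regular p) (dim_p B)
  have hQ2 : ∀ n, Subsingleton (Coh.HH X S.X₃ (n + 2)) := fun n => by
    rw [← h_eq_zero_iff (k := k) c3, hQ]
    exact Groth.L21.RR.h_eq_zero_of_subsingleton k
      (Groth.L21.RR.subsingleton_HH_two (X := (exc hp σ).subscheme) D.dim_eq.le _ _)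
  have e1 : ∀ n, h k n A' = h k n S.X₁ := fun n => h_congr k (e.symm ≪≫ i1.symm) n
  have e2 : ∀ n, h k n A = h k n S.X₂ := fun n => h_congr k i2.symm n
  have hq0 : h k 0 S.X₃ = q0 := (hQ 0).trans hq.1
  have hq1 : h k 1 S.X₃ = q1 := (hQ 1).trans hq.2
  refine ⟨?_, ?_, fun hz => ⟨?_, fun h1 => ?_⟩, fun hz => ⟨?_, fun h1 => ?_⟩, fun h0 => ?_, fun h2 => ?_⟩
  · rw [Groth.L03.Euler.euler_iso i2.symm, Groth.L03.Euler.euler_iso (e.symm ≪≫ i1.symm),
      Groth.L03.Euler.euler_add hS c1 c2 c3, Groth.L03.Euler.euler_eq_sum (M := S.X₃) (N := 2)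
        (fun n hn => by obtain ⟨m, rfl⟩ := Nat.exists_eq_add_of_le hn; rw [Nat.add_comm]; exact hQ2 m)]
    rw [Finset.sum_range_succ, Finset.sum_range_one]
    simp only [pow_zero, pow_one, one_mul, neg_mul]
    rw [show Module.finrank k (Coh.HH X S.X₃ 0) = q0 from hq0, show Module.finrank k (Coh.HH X S.X₃ 1) = q1 from hq1]
    ring
  · refine forall_congr' fun n => forall_congr' fun hn => ?_
    obtain ⟨m, rfl⟩ := Nat.exists_eq_add_of_le hn
    rw [e1, e2, Nat.add_comm 3 m, h_eq_left_succ hS (m + 2) (hQ2 m) (hQ2 (m + 1))]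
  · rw [e1, e2]
    exact h_eq_left_zero hS ((h_eq_zero_iff (k := k) c3 0).1 (hq0.trans hz))
  · rw [e1, h_eq_zero_iff (k := k) c1]
    rw [e2, h_eq_zero_iff (k := k) c2] at h1
    exact subsingleton_left_succ hS 0 ((h_eq_zero_iff (k := k) c3 0).1 (hq0.trans hz)) h1
  · rw [e1, e2]
    exact h_eq_left_succ hS 1 ((h_eq_zero_iff (k := k) c3 1).1 (hq1.trans hz)) (hQ2 0)
  · rw [e2, h_eq_zero_iff (k := k) c2]
    rw [e1, h_eq_zero_iff (k := k) c1] at h1
    exact subsingleton_mid hS 1 h1 ((h_eq_zero_iff (k := k) c3 1).1 (hq1.trans hz))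
  · rw [e1, h_eq_zero_iff (k := k) c1]
    rw [e2, h_eq_zero_iff (k := k) c2] at h0
    exact subsingleton_left_zero hS h0
  · rw [e2, h_eq_zero_iff (k := k) c2]
    rw [e1, h_eq_zero_iff (k := k) c1] at h2
    exact subsingleton_mid hS 2 h2 (hQ2 0)

def step_neg (d : ℤ) (b : ℕ) := seq_step B (isInvertible_Mneg B d b)
  (e := tensorAssoc (T σ d) (tensorPow (ClSub.idealMod (exc hp σ)) b) (ClSub.idealMod (exc hp σ)))
  (A' := Mneg hp σ d (b + 1)) (h_restrict_neg B d b)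

include hL in
def step_pos (d : ℤ) (b : ℕ) := seq_step B (isInvertible_Mpos B hL d (b + 1))
  (e := tensorAssoc (T σ d) _ _ ≪≫ tensorIso (Iso.refl _)
    (tensorAssoc (tensorPow L b) L _ ≪≫ tensorIso (Iso.refl _) hL.some ≪≫ tensorUnitRight _))
  (A' := Mpos σ L d b) (h_restrict_pos B hL d b)

theorem h_T' (d : ℤ) (M : X.Modules) (e : M ≅ T σ d) :
    h k 0 M = (d + 2).toNat.choose 2 ∧ h k 1 M = 0 ∧ h k 2 M = (-d - 1).toNat.choose 2 ∧
      ∀ n, 3 ≤ n → h k n M = 0 := by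
  obtain ⟨a0, a1, a2, a3⟩ := h_T B d
  exact ⟨(h_congr k e 0).trans a0, (h_congr k e 1).trans a1, (h_congr k e 2).trans a2,
    fun n hn => (h_congr k e n).trans (a3 n hn)⟩

theorem euler_eq {M : X.Modules} (hM : Coh.IsCoh M) (h3 : ∀ n, 3 ≤ n → h k n M = 0) :
    Curv2.euler k X M = (h k 0 M : ℤ) - h k 1 M + h k 2 M := by
  haveI := isProper_X B
  rw [Groth.L03.Euler.euler_eq_sum (M := M) (N := 3) fun n hn => (h_eq_zero_iff (k := k) hM n).1 (h3 n hn)]
  simp [Finset.sum_range_succ, h]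
  ring

theorem top_neg (d : ℤ) : ∀ b : ℕ,
    h k 2 (Mneg hp σ d b) = (-d - 1).toNat.choose 2 ∧ (∀ n, 3 ≤ n → h k n (Mneg hp σ d b) = 0) ∧
      Curv2.euler k X (Mneg hp σ d b) =
        ((d + 2).toNat.choose 2 : ℤ) + (-d - 1).toNat.choose 2 - (b + 1).choose 2
  | 0 => by
    obtain ⟨a0, a1, a2, a3⟩ := h_T' B d (Mneg hp σ d 0) (tensorUnitRight (T σ d))
    refine ⟨a2, a3, ?_⟩
    rw [euler_eq B (isCoh_of_invertible B (isInvertible_Mneg B d 0)) a3, a0, a1, a2]
    simp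
  | b + 1 => by
    obtain ⟨i2, i3, iχ⟩ := top_neg d b
    obtain ⟨sχ, s3, -, s1, -, -⟩ := step_neg B d b
    refine ⟨(s1 rfl).1.trans i2, s3.1 i3, ?_⟩
    rw [iχ] at sχ
    rw [Nat.choose_succ_succ' (b + 1) 1, Nat.choose_one_right]
    push_cast at sχ ⊢
    linarith

include hL in
theorem top_pos (d : ℤ) : ∀ b : ℕ,
    h k 0 (Mpos σ L d b) = (d + 2).toNat.choose 2 ∧ (∀ n, 3 ≤ n → h k n (Mpos σ L d b) = 0) ∧
      Curv2.euler k X (Mpos σ L d b) = ((d + 2).toNat.choose 2 : ℤ) + (-d - 1).toNat.choose 2 - b.choose 2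
  | 0 => by
    obtain ⟨a0, a1, a2, a3⟩ := h_T' B d (Mpos σ L d 0) (tensorUnitRight (T σ d))
    refine ⟨a0, a3, ?_⟩
    rw [euler_eq B (isCoh_of_invertible B (isInvertible_Mpos B hL d 0)) a3, a0, a1, a2]
    simp
  | b + 1 => by
    obtain ⟨i0, i3, iχ⟩ := top_pos d b
    obtain ⟨sχ, s3, s0, -, -, -⟩ := step_pos B hL d b
    refine ⟨(s0 rfl).1.symm.trans i0, s3.2 i3, ?_⟩
    rw [iχ] at sχ
    rw [Nat.choose_succ_succ' b 1, Nat.choose_one_right]
    push_cast at sχ ⊢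
    linarith

theorem acyclic_of_h {M : X.Modules} (hM : Coh.IsCoh M) (h0 : h k 0 M = 0) (h1 : h k 1 M = 0) (h2 : h k 2 M = 0)
    (h3 : ∀ n, 3 ≤ n → h k n M = 0) : Acyclic M := fun n => by
  haveI := isProper_X B
  refine (h_eq_zero_iff (k := k) hM n).1 ?_
  rcases n with _ | _ | _ | n
  exacts [h0, h1, h2, h3 _ (by omega)]

include hL in
/-- The diagonal `O((-1-c)H + cE)`, `O((c-1)H - cE)` has no cohomology. -/
theorem acyclic_diag : ∀ c : ℕ,
    Acyclic (Mpos σ L (-1 - c) c) ∧ Acyclic (Mneg hp σ (c - 1) c) := by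
  obtain ⟨s, hs⟩ := exists_sections B
  let N := tensorMod (ClSub.idealMod (exc hp σ)) (T σ 1)
  have hN : PicF.IsInvertible N := Groth.L18.GenLoc.isInvertible_tensor (isInvertible_E B) (isInvertible_T 1)
  have down : ∀ (d : ℤ) (c : ℕ), Nonempty (tensorMod (Mpos σ L d (c + 1)) N ≅ Mpos σ L (d + 1) c) := fun d c => by
    obtain ⟨t⟩ := nonempty_T_add (σ := σ) d 1
    exact ⟨tensorIso (Iso.refl _) (tensorComm _ _) ≪≫ middleFour _ _ _ _ ≪≫ tensorIso t
      (tensorAssoc (tensorPow L c) L _ ≪≫ tensorIso (Iso.refl _) hL.some ≪≫ tensorUnitRight _)⟩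
  have up : ∀ (d : ℤ) (c : ℕ), Nonempty (tensorMod (Mneg hp σ d c) N ≅ Mneg hp σ (d + 1) (c + 1)) := fun d c => by
    obtain ⟨t⟩ := nonempty_T_add (σ := σ) d 1
    exact ⟨tensorIso (Iso.refl _) (tensorComm _ _) ≪≫ middleFour _ _ _ _ ≪≫ tensorIso t (Iso.refl _)⟩
  have Z0 : Acyclic (Mneg hp σ (-1) 0) := by
    obtain ⟨a0, a1, a2, a3⟩ := h_T' B (-1) (Mneg hp σ (-1) 0) (tensorUnitRight _)
    exact acyclic_of_h B (isCoh_of_invertible B (isInvertible_Mneg B _ 0)) (by simpa using a0) a1 (by simpa using a2) a3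
  have W0 : Acyclic (Mpos σ L (-1) 0) := Z0
  have W1 : Acyclic (Mpos σ L (-2) 1) := by
    obtain ⟨i0, i3, iχ⟩ := top_pos B hL (-2) 1
    obtain ⟨-, -, -, s2, -, -⟩ := step_pos B hL (-2) 0
    obtain ⟨-, -, b2, -⟩ := h_T' B (-2) (Mpos σ L (-2) 0) (tensorUnitRight _)
    have h0 : h k 0 (Mpos σ L (-2) 1) = 0 := by simpa using i0
    have h2 : h k 2 (Mpos σ L (-2) 1) = 0 := by
      rw [← (s2 rfl).1, b2]
      decide
    have hM := isCoh_of_invertible B (isInvertible_Mpos B hL (-2) 1)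
    refine acyclic_of_h B hM h0 ?_ h2 i3
    rw [euler_eq B hM i3, h0, h2] at iχ
    simp at iχ
    omega
  have Z1 : Acyclic (Mneg hp σ 0 1) := by
    obtain ⟨e⟩ := down (-2) 0
    obtain ⟨e'⟩ := up (-1) 0
    have h1 : Acyclic (tensorMod (Mpos σ L (-2) 1) N) := W0.of_iso e.symm
    exact ((acyclic_step hN (isInvertible_Mpos B hL (-2) 1) s hs h1).1 W1).of_iso
      (tensorIso e (Iso.refl _) ≪≫ e')
  have main : ∀ c : ℕ, (Acyclic (Mpos σ L (-1 - c) c) ∧ Acyclic (Mpos σ L (-1 - (c + 1 : ℕ)) (c + 1))) ∧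
      (Acyclic (Mneg hp σ (c - 1) c) ∧ Acyclic (Mneg hp σ ((c + 1 : ℕ) - 1) (c + 1))) := by
    intro c
    induction c with
    | zero =>
      refine ⟨⟨?_, ?_⟩, ⟨?_, ?_⟩⟩
      · simpa using W0
      · simpa using W1
      · simpa using Z0
      · simpa using Z1
    | succ c ih =>
      obtain ⟨⟨hw, hw'⟩, ⟨hz, hz'⟩⟩ := ih
      refine ⟨⟨hw', ?_⟩, ⟨hz', ?_⟩⟩
      · obtain ⟨e⟩ := down (-1 - (c + 1 + 1 : ℕ)) (c + 1)
        obtain ⟨e'⟩ := down (-1 - (c + 1 + 1 : ℕ) + 1) c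
        rw [show (-1 - ((c + 1 + 1 : ℕ) : ℤ) + 1) = -1 - ((c + 1 : ℕ) : ℤ) by push_cast; ring] at e e'
        rw [show (-1 - ((c + 1 : ℕ) : ℤ) + 1) = -1 - (c : ℤ) by push_cast; ring] at e'
        have h1 := hw'.of_iso e.symm
        exact (acyclic_step hN (isInvertible_Mpos B hL _ _) s hs h1).2
          (hw.of_iso (tensorIso e (Iso.refl _) ≪≫ e').symm)
      · obtain ⟨e⟩ := up (c - 1) c
        obtain ⟨e'⟩ := up ((c : ℤ) - 1 + 1) (c + 1)
        rw [show (c : ℤ) - 1 + 1 = ((c + 1 : ℕ) : ℤ) - 1 by push_cast; ring] at e e'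
        rw [show ((c + 1 : ℕ) : ℤ) - 1 + 1 = ((c + 1 + 1 : ℕ) : ℤ) - 1 by push_cast; ring] at e'
        have h1 := hz'.of_iso e.symm
        exact ((acyclic_step hN (isInvertible_Mneg B _ _) s hs h1).1 hz).of_iso
          (tensorIso e (Iso.refl _) ≪≫ e')
  exact fun c => ⟨(main c).1.1, (main c).2.1⟩

/-- The table for `dH - bE`. -/
theorem table_neg (d : ℤ) (b : ℕ) :
    ((b : ℤ) ≤ d + 1 → h k 1 (Mneg hp σ d b) = 0) ∧ (d + 1 ≤ b → h k 0 (Mneg hp σ d b) = 0) := by
  obtain ⟨L, -, ⟨i⟩⟩ := Groth.L08.Cube.exists_inverse (isInvertible_E B)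
  have hL : ClSub.IsInverseOf L (ClSub.idealMod (exc hp σ)) := ⟨tensorComm _ _ ≪≫ i⟩
  haveI := isProper_X B
  have hz : ∀ c : ℕ, (c : ℤ) = d + 1 → Acyclic (Mneg hp σ d c) := fun c hc => by
    have := (acyclic_diag B hL c).2
    rwa [show (c : ℤ) - 1 = d by omega] at this
  have hzero : ∀ c : ℕ, (c : ℤ) = d + 1 → ∀ n, h k n (Mneg hp σ d c) = 0 := fun c hc n =>
    (h_eq_zero_iff (k := k) (isCoh_of_invertible B (isInvertible_Mneg B d c)) n).2 (hz c hc n)
  constructor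
  · intro hb
    obtain ⟨j, hj⟩ : ∃ j : ℕ, ((b + j : ℕ) : ℤ) = d + 1 := ⟨(d + 1 - b).toNat, by omega⟩
    induction j generalizing b with
    | zero => exact hzero b hj 1
    | succ j ih =>
      obtain ⟨-, -, -, s1, -, -⟩ := step_neg B d b
      exact (s1 rfl).2 (ih (b + 1) (by omega) (by omega))
  · intro hb
    induction b with
    | zero =>
      obtain ⟨a0, -, -, -⟩ := h_T' B d (Mneg hp σ d 0) (tensorUnitRight (T σ d))
      rw [a0]
      exact Nat.choose_eq_zero_of_lt (by omega)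
    | succ b ih =>
      by_cases hd : ((b + 1 : ℕ) : ℤ) = d + 1
      · exact hzero (b + 1) hd 0
      · obtain ⟨-, -, -, -, s0, -⟩ := step_neg B d b
        exact s0 (ih (by omega))

include hL in
/-- The table for `dH + bE`. -/
theorem table_pos (d : ℤ) (b : ℕ) :
    (-1 ≤ d + b → h k 2 (Mpos σ L d b) = 0) ∧ (d + b ≤ -1 → h k 1 (Mpos σ L d b) = 0) := by
  haveI := isProper_X B
  have hzero : ∀ c : ℕ, d + c = -1 → ∀ n, h k n (Mpos σ L d c) = 0 := fun c hc n => by
    have := (acyclic_diag B hL c).1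
    rw [show -1 - (c : ℤ) = d by omega] at this
    exact (h_eq_zero_iff (k := k) (isCoh_of_invertible B (isInvertible_Mpos B hL d c)) n).2 (this n)
  constructor
  · intro hb
    induction b with
    | zero =>
      obtain ⟨-, -, a2, -⟩ := h_T' B d (Mpos σ L d 0) (tensorUnitRight (T σ d))
      rw [a2]
      exact Nat.choose_eq_zero_of_lt (by omega)
    | succ b ih =>
      by_cases hd : d + (b + 1 : ℕ) = -1
      · exact hzero (b + 1) hd 2
      · obtain ⟨-, -, -, -, -, s2⟩ := step_pos B hL d b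
        exact s2 (ih (by omega))
  · intro hb
    obtain ⟨j, hj⟩ : ∃ j : ℕ, d + ((b + j : ℕ) : ℤ) = -1 := ⟨(-1 - d - b).toNat, by omega⟩
    induction j generalizing b with
    | zero => exact hzero b hj 1
    | succ j ih =>
      obtain ⟨-, -, s0, -, -, -⟩ := step_pos B hL d b
      exact (s0 rfl).2 (ih (b + 1) (by omega) (by omega))

theorem choose_two_int (d : ℤ) :
    ((d + 2).toNat.choose 2 : ℤ) + (-d - 1).toNat.choose 2 = (d * d + 3 * d) / 2 + 1 := by
  have hc : ∀ n : ℕ, (n.choose 2 : ℤ) * 2 = (n : ℤ) * ((n : ℤ) - 1) := fun n => by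
    induction n with
    | zero => simp
    | succ n ih => rw [Nat.choose_succ_succ' n 1, Nat.choose_one_right]; push_cast; linarith
  have key : (((d + 2).toNat.choose 2 : ℤ) + (-d - 1).toNat.choose 2 - 1) * 2 = d * d + 3 * d := by
    have h1 := hc (d + 2).toNat
    have h2 := hc (-d - 1).toNat
    rcases le_or_gt (-2) d with hd | hd
    · rw [Int.toNat_of_nonneg (by omega)] at h1
      have h3 : (-d - 1).toNat ≤ 1 := by omega
      rw [Nat.choose_eq_zero_of_lt (show (-d - 1).toNat < 2 by omega)]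
      push_cast
      linarith
    · rw [Int.toNat_of_nonneg (by omega)] at h2
      rw [Nat.choose_eq_zero_of_lt (show (d + 2).toNat < 2 by omega)]
      push_cast
      linarith
  omega

end Groth.L13.PointBlow
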